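import Cfsg.Agent.H303.E1.Main
import Cfsg.Agent.H272.TP.Star
import Cfsg.Agent.H523.KA.Aff

/-!
# S3414, [E1], light form: only the list of the 2-transitive groups and TAB2 are hypotheses

Summary of the proof.  `s = p (p + 1)`, `p + 1 = 2 ^ k`; let `t = q y`.

* `L y` affine, `t` odd: `t + 1 = 2 ^ e`, `p ∣ t`: excluded by Higman / Feit-Higman (`num_aff`).
* `L y` affine, `t` even: by the key lemma `2 ^ k ∣ idx x x'`; impossible (`no_idx3`: only `p = 3, 7` remain by orders).
* `L y` not affine, `t = p ^ j`: `n = 4`, `t = p ^ 3` or `49` (`num_pow`).  The orbits of `O_p(K y)` on the neighbours `≠ y` of `x`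
  have length `p`, and by (*) an element of `K y` preserving one orbit preserves all.  So a 2-subgroup `R` of `K y` of order
  `2 (p + 1)` contains for every `x ~ y` an involution preserving the orbits of `x`; it fixes at least three neighbours of `x`.
  An involution of `K y` with three fixed neighbours of two different `x, x₂ ~ y` is trivial on the neighbours of `x` (`quad`: its
  fixed points form a subquadrangle of order `(s', t)`, `s' ≥ 2`, but `2 t > s`), impossible as `K x ⊓ K y` is a `p`-group.  So
  `t + 1 ≤ |R|`, a contradiction: `|K y|_2 ≤ 2 ^ k` and COUNT 1 gives `2 ^ k ∣ idx y y'`, against TAB2 and the orders of the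
  automorphism groups of the possible socles.
-/

set_option autoImplicit false

namespace Cfsg.Agent.H303.E1

open Cfsg.Agent.H873.Tits

universe u v

theorem st_e1' (hTT : List2.{v}) (hT2 : StTab2.{v}) : StE1.{u, v} :=
  st_e1_of hTT Cfsg.Agent.H272.TP.st_star Cfsg.Agent.H523.KA.st_key_aff hT2

end Cfsg.Agent.H303.E1
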