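import Cfsg.Agent.H303.E1.Final
import Cfsg.Agent.H384.TwoTransMain
import Cfsg.Agent.S0000

/-!
# S3414, [E1], with the list of the 2-transitive groups (heavy closure)
-/

set_option autoImplicit false

namespace Cfsg.Agent.H303.E1

open Cfsg.Agent.H873.Tits

universe u v

theorem list2 : List2.{v} := by
  intro G Ω _ _ T A
  exact Cfsg.Agent.H384.TwoTransMain.main (fun _ _ _ _ => Cfsg.Agent.S0000.result) A

/-- **[E1]** -/
theorem st_e1 (hT2 : StTab2.{v}) : StE1.{u, v} := st_e1' list2 hT2

end Cfsg.Agent.H303.E1
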