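import Cfsg.Agent.H303.E1.Ly
import Cfsg.Agent.H523.KA.Aff
import Cfsg.Agent.LieClassical.SLGen

/-!
# S3414, E1: the 2-transitive subgroups of `PSL_3(p)`, `p + 1 = 2 ^ k`, on `p ^ 2 + p + 1` points: the index is not
divisible by `2 ^ k`
-/

set_option autoImplicit false

namespace Cfsg.Agent.H303.E1

open Subgroup MulAction Cfsg.Agent.H384.TwoTrans Cfsg.Agent.H873.Tits Matrix

universe u v

theorem not_comm_psl {F : Type} [Field F] [Fintype F] : ¬ IsMulCommutative (ProjectiveSpecialLinearGroup (Fin 3) F) := by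
  intro hc
  have h3 : 3 ≤ Fintype.card (Fin 3) := by rw [Fintype.card_fin]
  have hs : IsSimpleGroup (Matrix.ProjectiveSpecialLinearGroup (Fin 3) F) :=
    Cfsg.Agent.LieClassical.SLGen.psl_isSimpleGroup h3
  have h1 := Cfsg.Agent.LieClassical.SLGen.commutator_eq_top (ι := Fin 3) (F := F) h3
  have h2 : (commutator (Matrix.SpecialLinearGroup (Fin 3) F)).map (QuotientGroup.mk' _ :
      Matrix.SpecialLinearGroup (Fin 3) F →* Matrix.ProjectiveSpecialLinearGroup (Fin 3) F) = ⊥ := by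
    rw [commutator_def, map_commutator, commutator_eq_bot_iff_le_centralizer]
    intro x _
    rw [mem_centralizer_iff]
    intro y _
    exact hc.is_comm.comm y x
  rw [h1, ← MonoidHom.range_eq_map, MonoidHom.range_eq_top.2 (QuotientGroup.mk'_surjective _)] at h2
  obtain ⟨x, y, hxy⟩ := hs.toNontrivial
  apply hxy
  have h3 : ∀ z : Matrix.ProjectiveSpecialLinearGroup (Fin 3) F, z = 1 := fun z => by
    rw [← mem_bot, ← h2]; exact mem_top z
  rw [h3 x, h3 y]

/-- `gcd * |PSL_3(q)| = q ^ 3 (q ^ 3 - 1) (q ^ 2 - 1)` -/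
theorem card_psl3 {F : Type} [Field F] [Fintype F] {q : ℕ} (hF : Fintype.card F = q) :
    Nat.gcd 3 (q - 1) * Nat.card (ProjectiveSpecialLinearGroup (Fin 3) F) = q ^ 3 * (q ^ 3 - 1) * (q ^ 2 - 1) := by
  have h := S0243.result hF 3 (by norm_num)
  have hq : 2 ≤ q := hF ▸ Fintype.one_lt_card
  rw [Fin.prod_univ_three] at h
  obtain ⟨a, rfl⟩ : ∃ a, q = a + 2 := ⟨q - 2, by omega⟩
  have e0 : (a + 2) ^ 3 - (a + 2) ^ ((0 : Fin 3) : ℕ) = (a + 2) ^ 3 - 1 := by simp
  have e1 : (a + 2) ^ 3 - (a + 2) ^ ((1 : Fin 3) : ℕ) = (a + 2) * ((a + 2) ^ 2 - 1) := by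
    have : ((1 : Fin 3) : ℕ) = 1 := rfl
    rw [this, pow_one, Nat.mul_sub, mul_one]
    congr 1
    ring
  have e2 : (a + 2) ^ 3 - (a + 2) ^ ((2 : Fin 3) : ℕ) = (a + 2) ^ 2 * ((a + 2) - 1) := by
    have : ((2 : Fin 3) : ℕ) = 2 := rfl
    rw [this, Nat.mul_sub, mul_one]
    congr 1
  rw [e0, e1, e2] at h
  refine Nat.eq_of_mul_eq_mul_left (show 0 < a + 2 - 1 by omega) ?_
  rw [← mul_assoc, mul_comm (a + 2 - 1) (Nat.gcd 3 _), mul_assoc, h]
  ring

/-- the order of `L` -/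
theorem card_L {Ω : Type v} [Finite Ω] {L : Subgroup (Equiv.Perm Ω)} {p : ℕ} (hL : PSLType L p 3 1) (h3 : 3 ≤ p) :
    ∃ X : Subgroup L, X.Normal ∧ (∀ N : Subgroup L, N.Normal → N ≠ ⊥ → X ≤ N) ∧ Nat.card Ω = p ^ 2 + p + 1 ∧
      Nat.gcd 3 (p - 1) * Nat.card X = p ^ 3 * (p ^ 3 - 1) * (p ^ 2 - 1) ∧
      Nat.card L ∣ 2 * Nat.gcd 3 (p - 1) * Nat.card X := by
  obtain ⟨-, -, hp, hc, X, hXL, hXn, hXm, F, i1, i2, hF, ⟨e⟩⟩ := hL
  have hfac := Fact.mk hp
  rw [pow_one] at hc hF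
  let e' : ↥(X.subgroupOf L) ≃* ↥X := Subgroup.subgroupOfEquivOfLe hXL
  have hcX : Nat.card ↥(X.subgroupOf L) = Nat.card (ProjectiveSpecialLinearGroup (Fin 3) F) :=
    Nat.card_congr (e'.trans e).toEquiv
  have hmin : ∀ N : Subgroup L, N.Normal → N ≠ ⊥ → X.subgroupOf L ≤ N := by
    intro N hN hN1
    have h1 : (N.map L.subtype).subgroupOf L = N := by
      ext x
      constructor
      · rintro ⟨y, hy, hyx⟩
        have : y = x := L.subtype_injective hyx
        rwa [← this]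
      · intro hx
        exact ⟨x, hx, rfl⟩
    have h2 := hXm (N.map L.subtype) (by rintro _ ⟨x, -, rfl⟩; exact x.2) (by rw [h1]; exact hN) (by
      intro h
      rw [Subgroup.map_eq_bot_iff_of_injective _ L.subtype_injective] at h
      exact hN1 h)
    rw [← h1]
    exact fun x hx => h2 hx
  refine ⟨X.subgroupOf L, hXn, hmin, ?_, ?_, ?_⟩
  · obtain ⟨a, rfl⟩ : ∃ a, p = a + 1 := ⟨p - 1, by omega⟩
    have h1 : (a + 1) ^ 3 - 1 = ((a + 1) ^ 2 + (a + 1) + 1) * a := by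
      have : (a + 1) ^ 3 = ((a + 1) ^ 2 + (a + 1) + 1) * a + 1 := by ring
      omega
    rw [h1, Nat.add_sub_cancel] at hc
    exact Nat.eq_of_mul_eq_mul_right (by omega) hc
  · rw [hcX]
    exact card_psl3 hF
  · have hcen : Subgroup.centralizer ((X.subgroupOf L : Subgroup L) : Set L) = ⊥ := by
      by_contra hne
      have := hXn
      have h1 := hmin _ Subgroup.normal_centralizer hne
      apply not_comm_psl (F := F)
      refine ⟨⟨fun x y => ?_⟩⟩
      have h2 := h1 ((e'.trans e).symm y).2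
      rw [Subgroup.mem_centralizer_iff] at h2
      have h3 : (e'.trans e).symm x * (e'.trans e).symm y = (e'.trans e).symm y * (e'.trans e).symm x :=
        Subtype.ext (h2 _ ((e'.trans e).symm x).2)
      rw [← map_mul, ← map_mul] at h3
      exact (e'.trans e).symm.injective h3
    have := hXn
    refine (card_dvd_mulAut hcen).trans ?_
    rw [card_mulAut_congr (e'.trans e), S0813.result (F := F) p 1 le_rfl (by rw [hF, pow_one]) 3 (by norm_num) (by omega),
      if_neg (by norm_num), card_pgl (by norm_num), hF, hcX]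
    exact dvd_of_eq (by ring)

end Cfsg.Agent.H303.E1
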