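import Cfsg.Agent.H873.Tits.Stmts

/-!
# S3414, piece E1: numerical part (helper303)

`p` a Mersenne prime, `s = p (p + 1)`; `t = p ^ j` leaves `n = 4`, `t = p ^ 3` or `(p, t) = (7, 49)`; `t + 1 = 2 ^ e` with `p ∣ t`
is impossible.
-/

set_option autoImplicit false

namespace Cfsg.Agent.H303.E1

universe u v

open Cfsg.Agent.H873.Tits

/-- the numerical conditions, symmetric form -/
structure NumC (n s t : ℕ) : Prop where
  hig48 : (n = 4 ∨ n = 8) → s ≤ t ^ 2 ∧ t ≤ s ^ 2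
  hig6 : n = 6 → s ≤ t ^ 3 ∧ t ≤ s ^ 3
  fh4 : n = 4 → (s + t) ∣ 2 * s * t * (1 + s) * (1 + t)
  fh6 : n = 6 → ∃ g : ℕ, s * t = g ^ 2 ∧ (s + t + g) ∣ g ^ 2 * (1 + s) * (1 + t) * (1 + g ^ 2 + g)
  fh8 : n = 8 → ∃ h : ℕ, 2 * s * t = h ^ 2 ∧ (s + t) ∣ s * t * (1 + s) * (1 + t) * (1 + (s * t) ^ 2) ∧
    2 * (s + t + h) ∣ s * t * (1 + s) * (1 + t) * (1 + s * t) * (1 + s * t + h)

theorem numC {G : Type u} [Group G] {V : Type v} [MulAction G V] {P : Pol G V} (N : Num P) (b : Bool) :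
    NumC P.n (P.q b) (P.q (!b)) := by
  have key : NumC P.n (P.q true) (P.q false) := by
    refine ⟨fun h => ⟨N.hig48 h true, N.hig48 h false⟩, fun h => ⟨N.hig6 h true, N.hig6 h false⟩, N.fh4, ?_, ?_⟩
    · intro h
      obtain ⟨g, h1, h2, -⟩ := N.fh6 h
      exact ⟨g, h1, h2⟩
    · intro h
      obtain ⟨g, h1, h2, h3, -⟩ := N.fh8 h
      exact ⟨g, h1, h2, h3⟩
  cases b
  · refine ⟨fun h => (key.hig48 h).symm, fun h => (key.hig6 h).symm, ?_, ?_, ?_⟩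
    · intro h
      have h1 := key.fh4 h
      show P.q false + P.q true ∣ _
      rw [add_comm]
      convert h1 using 1
      show 2 * P.q false * P.q true * (1 + P.q false) * (1 + P.q true) = _
      ring
    · intro h
      obtain ⟨g, h1, h2⟩ := key.fh6 h
      refine ⟨g, ?_, ?_⟩
      · show P.q false * P.q true = _
        rw [mul_comm, h1]
      · show P.q false + P.q true + g ∣ _
        rw [add_comm (P.q false)]
        convert h2 using 1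
        show g ^ 2 * (1 + P.q false) * (1 + P.q true) * (1 + g ^ 2 + g) = _
        ring
    · intro h
      obtain ⟨g, h1, h2, h3⟩ := key.fh8 h
      refine ⟨g, ?_, ?_, ?_⟩
      · show 2 * P.q false * P.q true = _
        rw [← h1]; ring
      · show P.q false + P.q true ∣ _
        rw [add_comm (P.q false)]
        convert h2 using 1
        show P.q false * P.q true * (1 + P.q false) * (1 + P.q true) * (1 + (P.q false * P.q true) ^ 2) = _
        ring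
      · show 2 * (P.q false + P.q true + g) ∣ _
        rw [add_comm (P.q false)]
        convert h3 using 1
        show P.q false * P.q true * (1 + P.q false) * (1 + P.q true) * (1 + P.q false * P.q true) *
          (1 + P.q false * P.q true + g) = _
        ring
  · exact key

/-! ### squares -/

theorem odd_ne_sq {p i c h : ℕ} (hp : p.Prime) (hc : ¬ p ∣ c) (hh : p ^ (2 * i + 1) * c = h ^ 2) : False := by
  have hc0 : c ≠ 0 := by rintro rfl; exact hc (dvd_zero p)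
  have h1 := congrArg (fun m : ℕ => m.factorization p) hh
  simp only [Nat.factorization_mul (pow_ne_zero _ hp.ne_zero) hc0, Nat.factorization_pow, Finsupp.add_apply,
    Finsupp.smul_apply, hp.factorization_self, Nat.factorization_eq_zero_of_not_dvd hc, smul_eq_mul, mul_one,
    add_zero] at h1
  omega

theorem sq_cancel {p i c h : ℕ} (hp : 0 < p) (hh : p ^ (2 * i) * c = h ^ 2) : ∃ m, h = p ^ i * m ∧ c = m ^ 2 := by
  have h1 : (p ^ i) ^ 2 ∣ h ^ 2 := by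
    rw [← hh, ← pow_mul, mul_comm i 2]
    exact dvd_mul_right _ _
  obtain ⟨m, hm⟩ := (Nat.pow_dvd_pow_iff (by norm_num)).1 h1
  refine ⟨m, hm, ?_⟩
  rw [hm, mul_pow, ← pow_mul, mul_comm i 2] at hh
  exact Nat.eq_of_mul_eq_mul_left (pow_pos hp _) hh

/-- `p + 1 = m ^ 2` with `p` prime -/
theorem eq_three {p m : ℕ} (hp : p.Prime) (h : p + 1 = m ^ 2) : p = 3 := by
  have h2 := hp.two_le
  obtain ⟨a, rfl⟩ : ∃ a, m = a + 1 := ⟨m - 1, by
    rcases m with _ | m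
    · simp at h
    · rfl⟩
  have h3 : p = a * (a + 2) := by nlinarith
  have h4 : a = 1 := by
    rcases (Nat.prime_mul_iff.1 (h3 ▸ hp)) with ⟨_, h5⟩ | ⟨_, h5⟩
    · omega
    · omega
  subst h4
  omega

/-! ### the case `n = 8`, `t = p ^ 3` -/

theorem dvd_eq' {α : Type*} [Dvd α] {a b c : α} (h : a ∣ b) (e : b = c) : a ∣ c := e ▸ h

theorem eight_three {v : ℤ} (hv : 2 ≤ v)
    (h : (4 * v ^ 4 + 4 * v ^ 3 - 2 * v ^ 2 - 2 * v + 1) ∣
      ((2 * v ^ 2 - 1) * (2 * v ^ 2)) * (2 * v ^ 2 - 1) ^ 3 * (1 + (2 * v ^ 2 - 1) * (2 * v ^ 2)) *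
        (1 + (2 * v ^ 2 - 1) ^ 3) * (1 + (2 * v ^ 2 - 1) * (2 * v ^ 2) * (2 * v ^ 2 - 1) ^ 3) *
        (1 + (2 * v ^ 2 - 1) * (2 * v ^ 2) * (2 * v ^ 2 - 1) ^ 3 + (2 * v ^ 2 - 1) ^ 2 * (2 * v))) : False := by
  obtain ⟨D, hD⟩ : ∃ D : ℤ, D = 4 * v ^ 4 + 4 * v ^ 3 - 2 * v ^ 2 - 2 * v + 1 := ⟨_, rfl⟩
  rw [← hD] at h
  have cv : IsCoprime D v := ⟨1, -(4 * v ^ 3 + 4 * v ^ 2 - 2 * v - 2), by rw [hD]; ring⟩
  have c2 : IsCoprime D 2 := ⟨1, -(2 * v ^ 4 + 2 * v ^ 3 - v ^ 2 - v), by rw [hD]; ring⟩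
  have cp : IsCoprime D (2 * v ^ 2 - 1) := ⟨1, -(2 * v ^ 2 + 2 * v), by rw [hD]; ring⟩
  have c2v : IsCoprime D (2 * v ^ 2) := c2.mul_right (IsCoprime.pow_right cv)
  -- remove the coprime factors
  have h1 : D ∣ (1 + (2 * v ^ 2 - 1) * (2 * v ^ 2)) * ((1 + (2 * v ^ 2 - 1) ^ 3) *
      ((1 + (2 * v ^ 2 - 1) * (2 * v ^ 2) * (2 * v ^ 2 - 1) ^ 3) *
        (1 + (2 * v ^ 2 - 1) * (2 * v ^ 2) * (2 * v ^ 2 - 1) ^ 3 + (2 * v ^ 2 - 1) ^ 2 * (2 * v)))) := by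
    refine ((cp.mul_right c2v).mul_right (IsCoprime.pow_right cp (n := 3))).dvd_of_dvd_mul_left ?_
    exact dvd_eq' h (by ring)
  have c1s : IsCoprime D (1 + (2 * v ^ 2 - 1) * (2 * v ^ 2)) := by
    have h2 : IsCoprime D (-(2 * v * (2 * v ^ 2 - 1))) := ((c2.mul_right cv).mul_right cp).neg_right
    have h3 := h2.add_mul_left_right 1
    have e : -(2 * v * (2 * v ^ 2 - 1)) + D * 1 = 1 + (2 * v ^ 2 - 1) * (2 * v ^ 2) := by rw [hD]; ring
    rwa [e] at h3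
  have h2 := c1s.dvd_of_dvd_mul_left h1
  have h3 : D ∣ (2 * v ^ 2) * (((2 * v ^ 2 - 1) ^ 2 - (2 * v ^ 2 - 1) + 1) *
      ((1 + (2 * v ^ 2 - 1) * (2 * v ^ 2) * (2 * v ^ 2 - 1) ^ 3) *
        (1 + (2 * v ^ 2 - 1) * (2 * v ^ 2) * (2 * v ^ 2 - 1) ^ 3 + (2 * v ^ 2 - 1) ^ 2 * (2 * v)))) :=
    dvd_eq' h2 (by ring)
  have h4 := c2v.dvd_of_dvd_mul_left h3
  have h5 : D ∣ (2 * (2 * v ^ 2 - 1)) * ((1 + v) * (1 + (2 * v ^ 2 - 1) * (2 * v ^ 2) * (2 * v ^ 2 - 1) ^ 3) *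
        (1 + (2 * v ^ 2 - 1) * (2 * v ^ 2) * (2 * v ^ 2 - 1) ^ 3 + (2 * v ^ 2 - 1) ^ 2 * (2 * v))) := by
    have h6 := (dvd_mul_right D (((1 + (2 * v ^ 2 - 1) * (2 * v ^ 2) * (2 * v ^ 2 - 1) ^ 3) *
        (1 + (2 * v ^ 2 - 1) * (2 * v ^ 2) * (2 * v ^ 2 - 1) ^ 3 + (2 * v ^ 2 - 1) ^ 2 * (2 * v))))).sub h4
    exact dvd_eq' h6 (by rw [hD]; ring)
  have h6 := (c2.mul_right cp).dvd_of_dvd_mul_left h5
  have h7 : D ∣ 10 * (4 * v ^ 3 + 2 * v ^ 2 - 4 * v + 1) := by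
    have h8 := (dvd_mul_right D (11 - 15 * v + 18 * v ^ 2 + 2 * v ^ 3 + 24 * v ^ 4 - 28 * v ^ 5 - 96 * v ^ 6 - 80 * v ^ 7 +
      224 * v ^ 8 + 464 * v ^ 9 - 288 * v ^ 10 - 992 * v ^ 11 + 128 * v ^ 12 + 1280 * v ^ 13 - 896 * v ^ 15 +
      256 * v ^ 17)).sub h6
    exact dvd_eq' h8 (by rw [hD]; ring)
  by_cases hb : v < 16
  · rw [hD] at h7
    interval_cases v <;> norm_num at h7
  · push Not at hb
    have h9 : 16 * v ^ 3 ≤ v ^ 4 := by
      have : v ^ 4 = v * v ^ 3 := by ring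
      rw [this]
      exact mul_le_mul_of_nonneg_right hb (by positivity)
    have h10 : 16 * v ^ 2 ≤ v ^ 3 := by
      have : v ^ 3 = v * v ^ 2 := by ring
      rw [this]
      exact mul_le_mul_of_nonneg_right hb (by positivity)
    have h11 : 16 * v ≤ v ^ 2 := by nlinarith
    have h8 := Int.le_of_dvd (by nlinarith) h7
    rw [hD] at h8
    nlinarith

/-! ### the Mersenne prime -/

theorem two_lt {p k : ℕ} (hp : p.Prime) (hk : p + 1 = 2 ^ k) : 3 ≤ p ∧ p % 2 = 1 ∧ 2 ≤ k := by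
  have h2 := hp.two_le
  have hk1 : k ≠ 0 := by rintro rfl; rw [pow_zero] at hk; omega
  have hk2 : k ≠ 1 := by rintro rfl; rw [pow_one] at hk; omega
  obtain ⟨l, rfl⟩ : ∃ l, k = l + 2 := ⟨k - 2, by omega⟩
  have h3 : 2 ^ (l + 2) = 4 * 2 ^ l := by ring
  have h4 : 0 < 2 ^ l := by positivity
  omega

theorem not_dvd_two_mul {p k : ℕ} (hp : p.Prime) (hk : p + 1 = 2 ^ k) : ¬ p ∣ 2 * (p + 1) := by
  obtain ⟨h3, -, -⟩ := two_lt hp hk
  intro h
  have h1 : p ∣ 2 := by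
    have h4 : 2 * (p + 1) = p * 2 + 2 := by ring
    rw [h4] at h
    exact (Nat.dvd_add_right (dvd_mul_right p 2)).1 h
  have := Nat.le_of_dvd (by norm_num) h1
  omega

theorem not_dvd_succ {p : ℕ} (hp : p.Prime) : ¬ p ∣ p + 1 := by
  intro h
  have h1 := (Nat.dvd_add_right (dvd_refl p)).1 h
  exact hp.one_lt.ne' (Nat.dvd_one.1 h1)

/-! ### the power case -/

theorem j_bound {p j : ℕ} (h3 : 3 ≤ p) (h1 : p * (p + 1) ≤ (p ^ j) ^ 2) (h2 : p ^ j ≤ (p * (p + 1)) ^ 2) :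
    j = 2 ∨ j = 3 ∨ j = 4 := by
  have a1 : 2 ≤ j := by
    by_contra hcon
    have : p ^ j ≤ p ^ 1 := Nat.pow_le_pow_right (by omega) (by omega)
    rw [pow_one] at this
    have h4 : (p ^ j) ^ 2 ≤ p ^ 2 := Nat.pow_le_pow_left this 2
    nlinarith
  have a2 : j ≤ 4 := by
    by_contra hcon
    have : p ^ 5 ≤ p ^ j := Nat.pow_le_pow_right (by omega) (by omega)
    have h4 := this.trans h2
    have h5 : p ^ 5 = p ^ 2 * p ^ 3 := by ring
    have h6 : (p * (p + 1)) ^ 2 = p ^ 2 * (p + 1) ^ 2 := by ring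
    rw [h5, h6] at h4
    have h7 := Nat.le_of_mul_le_mul_left h4 (by positivity)
    have h8 : 3 * p ^ 2 ≤ p ^ 3 := by
      have : p ^ 3 = p * p ^ 2 := by ring
      rw [this]; exact Nat.mul_le_mul_right _ h3
    nlinarith
  omega

theorem four_two {p : ℕ} (h3 : 3 ≤ p)
    (h : p * (p + 1) + p ^ 2 ∣ 2 * (p * (p + 1)) * p ^ 2 * (1 + p * (p + 1)) * (1 + p ^ 2)) : p = 7 := by
  have h1 : p * (2 * p + 1) ∣ p * (2 * p ^ 2 * (p + 1) * (p ^ 2 + p + 1) * (p ^ 2 + 1)) := by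
    have e1 : p * (p + 1) + p ^ 2 = p * (2 * p + 1) := by ring
    rw [e1] at h
    exact dvd_eq' h (by ring)
  have h2 := Nat.dvd_of_mul_dvd_mul_left (by omega) h1
  have h4 : ((2 * p + 1 : ℕ) : ℤ) ∣ ((2 * p ^ 2 * (p + 1) * (p ^ 2 + p + 1) * (p ^ 2 + 1) : ℕ) : ℤ) := by exact_mod_cast h2
  push_cast at h4
  have h5 : (2 * (p : ℤ) + 1) ∣ 15 := by
    have h6 := (h4.mul_left 64).sub (dvd_mul_right (2 * (p : ℤ) + 1) ((-15) + 30 * p + 68 * p ^ 2 + 120 * p ^ 3 + 144 * p ^ 4 +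
      96 * p ^ 5 + 64 * p ^ 6))
    exact dvd_eq' h6 (by ring)
  have h7 : 2 * p + 1 ∣ 15 := by exact_mod_cast h5
  have h8 := Nat.le_of_dvd (by norm_num) h7
  have h9 : p ≤ 7 := by omega
  interval_cases p <;> revert h7 <;> decide

theorem four_four {p : ℕ} (h3 : 3 ≤ p)
    (h : p * (p + 1) + p ^ 4 ∣ 2 * (p * (p + 1)) * p ^ 4 * (1 + p * (p + 1)) * (1 + p ^ 4)) : False := by
  have h1 : p * (p ^ 3 + p + 1) ∣ p * (2 * (p + 1) * p ^ 4 * (1 + p * (p + 1)) * (1 + p ^ 4)) := by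
    have e1 : p * (p + 1) + p ^ 4 = p * (p ^ 3 + p + 1) := by ring
    rw [e1] at h
    exact dvd_eq' h (by ring)
  have h2 := Nat.dvd_of_mul_dvd_mul_left (by omega) h1
  have h4 : ((p ^ 3 + p + 1 : ℕ) : ℤ) ∣ ((2 * (p + 1) * p ^ 4 * (1 + p * (p + 1)) * (1 + p ^ 4) : ℕ) : ℤ) := by exact_mod_cast h2
  push_cast at h4
  have cp : IsCoprime ((p : ℤ) ^ 3 + p + 1) (p : ℤ) := ⟨1, -(p ^ 2 + 1), by ring⟩
  have cp1 : IsCoprime ((p : ℤ) ^ 3 + p + 1) ((p : ℤ) + 1) := ⟨-1, (p ^ 2 - p + 2), by ring⟩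
  have h5 : ((p : ℤ) ^ 3 + p + 1) ∣ (p : ℤ) ^ 4 * ((p + 1) * (2 * (1 + p * (p + 1)) * (1 + p ^ 4))) :=
    dvd_eq' h4 (by ring)
  have h6 := cp1.dvd_of_dvd_mul_left ((IsCoprime.pow_right cp (n := 4)).dvd_of_dvd_mul_left h5)
  have h7 : ((p : ℤ) ^ 3 + p + 1) ∣ ((p : ℤ) + 1) * 6 := by
    have h8 := h6.sub (dvd_mul_right ((p : ℤ) ^ 3 + p + 1) (2 * ((p : ℤ) ^ 3 + p ^ 2 - 2)))
    exact dvd_eq' h8 (by ring)
  have h8 := cp1.dvd_of_dvd_mul_left h7
  have h9 : p ^ 3 + p + 1 ∣ 6 := by exact_mod_cast h8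
  have h10 := Nat.le_of_dvd (by norm_num) h9
  have : 3 ^ 3 ≤ p ^ 3 := Nat.pow_le_pow_left h3 3
  omega

theorem eight_three' {p h : ℕ} (h3 : 3 ≤ p) (hsq : 2 * (p * (p + 1)) * p ^ 3 = h ^ 2)
    (hd : 2 * (p * (p + 1) + p ^ 3 + h) ∣ p * (p + 1) * p ^ 3 * (1 + p * (p + 1)) * (1 + p ^ 3) *
      (1 + p * (p + 1) * p ^ 3) * (1 + p * (p + 1) * p ^ 3 + h)) : False := by
  obtain ⟨m, rfl, hm⟩ := sq_cancel (p := p) (i := 2) (c := 2 * (p + 1)) (h := h) (by omega) (by rw [← hsq]; ring)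
  have hm2 : 2 ∣ m := by
    have : 2 ∣ m ^ 2 := ⟨p + 1, hm.symm⟩
    exact Nat.prime_two.dvd_of_dvd_pow this
  obtain ⟨v, rfl⟩ := hm2
  have hv : p + 1 = 2 * v ^ 2 := by nlinarith
  have hv2 : 2 ≤ v := by
    by_contra hcon
    have : v ≤ 1 := by omega
    interval_cases v <;> omega
  have hpv : (p : ℤ) = 2 * (v : ℤ) ^ 2 - 1 := by
    have : ((p + 1 : ℕ) : ℤ) = ((2 * v ^ 2 : ℕ) : ℤ) := by rw [hv]
    push_cast at this
    linarith
  refine eight_three (v := (v : ℤ)) (by exact_mod_cast hv2) ?_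
  have h4 : ((2 * (p * (p + 1) + p ^ 3 + p ^ 2 * (2 * v)) : ℕ) : ℤ) ∣ ((p * (p + 1) * p ^ 3 * (1 + p * (p + 1)) * (1 + p ^ 3) *
      (1 + p * (p + 1) * p ^ 3) * (1 + p * (p + 1) * p ^ 3 + p ^ 2 * (2 * v)) : ℕ) : ℤ) := by exact_mod_cast hd
  push_cast at h4
  have e1 : (2 * ((p : ℤ) * (p + 1) + p ^ 3 + p ^ 2 * (2 * v))) = (2 * p) * (p ^ 2 + p + 1 + 2 * p * v) := by ring
  rw [e1] at h4
  have h5 := (Dvd.intro_left (2 * (p : ℤ)) rfl : ((p : ℤ) ^ 2 + p + 1 + 2 * p * v) ∣ _).trans h4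
  have e2 : ((p : ℤ) ^ 2 + p + 1 + 2 * p * v) = 4 * (v : ℤ) ^ 4 + 4 * v ^ 3 - 2 * v ^ 2 - 2 * v + 1 := by
    rw [hpv]; ring
  rw [e2] at h5
  refine dvd_eq' h5 ?_
  have e3 : (p : ℤ) + 1 = 2 * (v : ℤ) ^ 2 := by rw [hpv]; ring
  rw [e3, hpv]

theorem six_num {j g : ℕ} (hj : j = 1 ∨ j = 3 ∨ j = 5) (h1 : 12 * 3 ^ j = g ^ 2)
    (h2 : 12 + 3 ^ j + g ∣ g ^ 2 * (1 + 12) * (1 + 3 ^ j) * (1 + g ^ 2 + g)) : False := by
  rcases hj with rfl | rfl | rfl
  · have hg : g = 6 := by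
      have : g ^ 2 = 6 ^ 2 := by rw [← h1]; norm_num
      exact Nat.pow_left_injective (by norm_num) this
    subst hg
    revert h2
    decide
  · have hg : g = 18 := by
      have : g ^ 2 = 18 ^ 2 := by rw [← h1]; norm_num
      exact Nat.pow_left_injective (by norm_num) this
    subst hg
    revert h2
    norm_num
  · have hg : g = 54 := by
      have : g ^ 2 = 54 ^ 2 := by rw [← h1]; norm_num
      exact Nat.pow_left_injective (by norm_num) this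
    subst hg
    revert h2
    norm_num

/-- **the case `t = p ^ j`** -/
theorem num_pow {n s t p k j : ℕ} (hn : n = 4 ∨ n = 6 ∨ n = 8) (N : NumC n s t) (hp : p.Prime) (hk : p + 1 = 2 ^ k)
    (hs : s = p * (p + 1)) (ht : t = p ^ j) : n = 4 ∧ (j = 3 ∨ (p = 7 ∧ j = 2)) := by
  obtain ⟨h3, -, -⟩ := two_lt hp hk
  subst hs ht
  rcases hn with rfl | rfl | rfl
  · refine ⟨rfl, ?_⟩
    obtain ⟨a, b⟩ := N.hig48 (Or.inl rfl)
    have hf := N.fh4 rfl
    rcases j_bound h3 a b with rfl | rfl | rfl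
    · exact Or.inr ⟨four_two h3 hf, rfl⟩
    · exact Or.inl rfl
    · exact (four_four h3 hf).elim
  · exfalso
    obtain ⟨g, hg, hd⟩ := N.fh6 rfl
    obtain ⟨a, b⟩ := N.hig6 rfl
    rcases Nat.even_or_odd' j with ⟨i, rfl | rfl⟩
    · refine odd_ne_sq (p := p) (i := i) (c := p + 1) (h := g) hp (not_dvd_succ hp) ?_
      rw [← hg]; ring
    · obtain ⟨m, hm, hm2⟩ := sq_cancel (p := p) (i := i + 1) (c := p + 1) (h := g) (by omega) (by rw [← hg]; ring)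
      obtain rfl := eq_three hp hm2
      have hi : i ≤ 2 := by
        by_contra hcon
        have : 3 ^ 7 ≤ 3 ^ (2 * i + 1) := Nat.pow_le_pow_right (by norm_num) (by omega)
        have := this.trans b
        norm_num at this
      refine six_num (j := 2 * i + 1) (by omega) hg hd
  · exfalso
    obtain ⟨h, hh, -, hd⟩ := N.fh8 rfl
    obtain ⟨a, b⟩ := N.hig48 (Or.inr rfl)
    rcases j_bound h3 a b with rfl | rfl | rfl
    · exact odd_ne_sq (p := p) (i := 1) (c := 2 * (p + 1)) (h := h) hp (not_dvd_two_mul hp hk) (by rw [← hh]; ring)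
    · exact eight_three' h3 hh hd
    · exact odd_ne_sq (p := p) (i := 2) (c := 2 * (p + 1)) (h := h) hp (not_dvd_two_mul hp hk) (by rw [← hh]; ring)

/-! ### the affine case -/

/-- the exponent -/
theorem exists_exp {p k e : ℕ} (hp : p.Prime) (hk : p + 1 = 2 ^ k) {t : ℕ} (ht : t + 1 = 2 ^ e) (hd : p ∣ t) :
    ∃ d, t + 1 = (p + 1) ^ d := by
  have h1 : 2 ^ k - 1 = p := by omega
  have h2 : 2 ^ e - 1 = t := by omega
  have h3 : Nat.gcd (2 ^ k - 1) (2 ^ e - 1) = 2 ^ (Nat.gcd k e) - 1 := Nat.pow_sub_one_gcd_pow_sub_one 2 k e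
  rw [h1, h2, Nat.gcd_eq_left hd] at h3
  have h4 : 2 ^ k = 2 ^ (Nat.gcd k e) := by
    have : 0 < 2 ^ (Nat.gcd k e) := by positivity
    omega
  have h5 := Nat.pow_right_injective (le_refl 2) h4
  have h6 : k ∣ e := by rw [h5]; exact Nat.gcd_dvd_right k e
  obtain ⟨d, rfl⟩ := h6
  exact ⟨d, by rw [ht, hk, pow_mul]⟩

theorem aff_four_two {p : ℕ} (hp : p.Prime) (h3 : 3 ≤ p)
    (h : p * (p + 1) + p * (p + 2) ∣ 2 * (p * (p + 1)) * (p * (p + 2)) * (1 + p * (p + 1)) * (1 + p * (p + 2))) : False := by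
  have h1 : p * (2 * p + 3) ∣ p * (2 * p * (p + 1) * (p + 2) * (p ^ 2 + p + 1) * (p + 1) ^ 2) := by
    have e1 : p * (p + 1) + p * (p + 2) = p * (2 * p + 3) := by ring
    rw [e1] at h
    exact dvd_eq' h (by ring)
  have h2 := Nat.dvd_of_mul_dvd_mul_left (by omega) h1
  have h4 : ((2 * p + 3 : ℕ) : ℤ) ∣ ((2 * p * (p + 1) * (p + 2) * (p ^ 2 + p + 1) * (p + 1) ^ 2 : ℕ) : ℤ) := by exact_mod_cast h2
  push_cast at h4
  have h5 : (2 * (p : ℤ) + 3) ∣ 21 := by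
    have h6 := (h4.mul_left 64).sub (dvd_mul_right (2 * (p : ℤ) + 3) ((-7) + 90 * p + 324 * p ^ 2 + 552 * p ^ 3 + 528 * p ^ 4 +
      288 * p ^ 5 + 64 * p ^ 6))
    exact dvd_eq' h6 (by ring)
  have h7 : 2 * p + 3 ∣ 21 := by exact_mod_cast h5
  have h8 := Nat.le_of_dvd (by norm_num) h7
  have h9 : p ≤ 9 := by omega
  interval_cases p <;> revert h7 hp <;> decide

theorem aff_four_three {p : ℕ} (hp : p.Prime) (h3 : 3 ≤ p)
    (h : p * (p + 1) + p * (p ^ 2 + 3 * p + 3) ∣ 2 * (p * (p + 1)) * (p * (p ^ 2 + 3 * p + 3)) * (1 + p * (p + 1)) *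
      (1 + p * (p ^ 2 + 3 * p + 3))) : False := by
  have h1 : p * ((p + 2) * (p + 2)) ∣ p * (2 * p * (p + 1) * (p ^ 2 + 3 * p + 3) * (p ^ 2 + p + 1) * (p + 1) ^ 3) := by
    have e1 : p * (p + 1) + p * (p ^ 2 + 3 * p + 3) = p * ((p + 2) * (p + 2)) := by ring
    rw [e1] at h
    exact dvd_eq' h (by ring)
  have h2 := (Dvd.intro _ rfl : (p + 2) ∣ (p + 2) * (p + 2)).trans (Nat.dvd_of_mul_dvd_mul_left (by omega) h1)
  have h4 : ((p + 2 : ℕ) : ℤ) ∣ ((2 * p * (p + 1) * (p ^ 2 + 3 * p + 3) * (p ^ 2 + p + 1) * (p + 1) ^ 3 : ℕ) : ℤ) := by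
    exact_mod_cast h2
  push_cast at h4
  have h5 : ((p : ℤ) + 2) ∣ 12 := by
    have h6 := (dvd_mul_right ((p : ℤ) + 2) (6 + 18 * p ^ 2 + 40 * p ^ 3 + 60 * p ^ 4 + 56 * p ^ 5 + 34 * p ^ 6 + 12 * p ^ 7 +
      2 * p ^ 8)).sub h4
    exact dvd_eq' h6 (by ring)
  have h7 : p + 2 ∣ 12 := by exact_mod_cast h5
  have h8 := Nat.le_of_dvd (by norm_num) h7
  have h9 : p ≤ 10 := by omega
  interval_cases p <;> revert h7 hp <;> decide

theorem d_bound {p d t : ℕ} (h3 : 3 ≤ p) (ht : t + 1 = (p + 1) ^ d) (h1 : p * (p + 1) ≤ t ^ 2) (h2 : t ≤ (p * (p + 1)) ^ 2) :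
    d = 2 ∨ d = 3 := by
  have a1 : 2 ≤ d := by
    by_contra hcon
    have h4 : (p + 1) ^ d ≤ (p + 1) ^ 1 := Nat.pow_le_pow_right (by omega) (by omega)
    rw [pow_one, ← ht] at h4
    have h5 : t ^ 2 ≤ p ^ 2 := Nat.pow_le_pow_left (by omega) 2
    nlinarith
  have a2 : d ≤ 3 := by
    by_contra hcon
    have h4 : (p + 1) ^ 4 ≤ (p + 1) ^ d := Nat.pow_le_pow_right (by omega) (by omega)
    rw [← ht] at h4
    have h5 := h4.trans (Nat.succ_le_succ h2)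
    have h6 : (p + 1) ^ 4 = (p + 1) ^ 2 * (p + 1) ^ 2 := by ring
    have h7 : (p * (p + 1)) ^ 2 = p ^ 2 * (p + 1) ^ 2 := by ring
    rw [h6, h7] at h5
    have h8 : (p ^ 2 + 1) * (p + 1) ^ 2 < (p + 1) ^ 2 * (p + 1) ^ 2 := Nat.mul_lt_mul_of_pos_right (by nlinarith) (by positivity)
    have h9 : 1 ≤ (p + 1) ^ 2 := Nat.one_le_pow _ _ (by omega)
    nlinarith
  omega

theorem sq_of_cop {a b c : ℕ} (h : Nat.Coprime a b) (e : a * b = c ^ 2) : ∃ d, a = d ^ 2 :=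
  exists_eq_pow_of_mul_eq_pow (Nat.isUnit_iff.2 h) e

theorem aff_six {d g t : ℕ} (hd : d ≤ 5) (ht : t + 1 = 4 ^ d) (ht1 : 2 ≤ t) (h1 : 12 * t = g ^ 2)
    (h2 : 12 + t + g ∣ g ^ 2 * (1 + 12) * (1 + t) * (1 + g ^ 2 + g)) : False := by
  have hg : g < 128 := by
    by_contra hcon
    have h3 : 128 ^ 2 ≤ g ^ 2 := Nat.pow_le_pow_left (by omega) 2
    have h4 : 4 ^ d ≤ 4 ^ 5 := Nat.pow_le_pow_right (by norm_num) hd
    rw [← h1] at h3
    norm_num at h3 h4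
    omega
  have hm : t = 3 ∨ t = 15 ∨ t = 63 ∨ t = 255 ∨ t = 1023 := by
    interval_cases d
    all_goals norm_num at ht
    all_goals omega
  rcases hm with rfl | rfl | rfl | rfl | rfl
  · have hg : g = 6 := by
      have : g ^ 2 = 6 ^ 2 := by rw [← h1]; norm_num
      exact Nat.pow_left_injective (by norm_num) this
    subst hg
    revert h2
    decide
  · exfalso; clear h2; interval_cases g <;> omega
  · exfalso; clear h2; interval_cases g <;> omega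
  · exfalso; clear h2; interval_cases g <;> omega
  · exfalso; clear h2; interval_cases g <;> omega

/-- **the case `t + 1 = 2 ^ e`, `p ∣ t`** -/
theorem num_aff {n s t p k e : ℕ} (hn : n = 4 ∨ n = 6 ∨ n = 8) (N : NumC n s t) (hp : p.Prime) (hk : p + 1 = 2 ^ k)
    (hs : s = p * (p + 1)) (ht1 : 2 ≤ t) (ht : t + 1 = 2 ^ e) (hd : p ∣ t) : False := by
  obtain ⟨h3, hodd, -⟩ := two_lt hp hk
  subst hs
  obtain ⟨d, hd'⟩ := exists_exp hp hk ht hd
  rcases hn with rfl | rfl | rfl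
  · obtain ⟨a, b⟩ := N.hig48 (Or.inl rfl)
    have hf := N.fh4 rfl
    rcases d_bound h3 hd' a b with rfl | rfl
    · have : t = p * (p + 2) := by nlinarith
      subst this
      exact aff_four_two hp h3 hf
    · have : t = p * (p ^ 2 + 3 * p + 3) := by nlinarith
      subst this
      exact aff_four_three hp h3 hf
  · obtain ⟨g, hg, hdv⟩ := N.fh6 rfl
    obtain ⟨a, b⟩ := N.hig6 rfl
    have hcop : Nat.Coprime (p + 1) (p * t) := by
      have c1 : Nat.Coprime (p + 1) p := by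
        rw [Nat.coprime_comm]
        exact (Nat.Prime.coprime_iff_not_dvd hp).2 (not_dvd_succ hp)
      have hd0 : d ≠ 0 := by rintro rfl; rw [pow_zero] at hd'; omega
      have c2 : Nat.Coprime (p + 1) t := by
        obtain ⟨c, rfl⟩ : ∃ c, d = c + 1 := ⟨d - 1, by omega⟩
        refine Nat.Coprime.symm (Nat.coprime_of_dvd' ?_)
        intro r hr h4 h5
        have h6 : r ∣ t + 1 := by rw [hd', pow_succ]; exact h5.mul_left _
        exact (Nat.dvd_add_right h4).1 h6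
      exact c1.mul_right c2
    obtain ⟨m, hm⟩ := sq_of_cop hcop (show (p + 1) * (p * t) = g ^ 2 by rw [← hg]; ring)
    obtain rfl := eq_three hp hm
    have hd5 : d ≤ 5 := by
      by_contra hcon
      have h4 : 4 ^ 6 ≤ (3 + 1) ^ d := Nat.pow_le_pow_right (by norm_num) (by omega)
      rw [← hd'] at h4
      norm_num at h4 b
      omega
    exact aff_six hd5 hd' ht1 hg hdv
  · obtain ⟨h, hh, hdv, -⟩ := N.fh8 rfl
    obtain ⟨a, b⟩ := N.hig48 (Or.inr rfl)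
    rcases d_bound h3 hd' a b with rfl | rfl
    · have : t = p * (p + 2) := by nlinarith
      subst this
      obtain ⟨m, rfl, hm⟩ := sq_cancel (p := p) (i := 1) (c := (2 * (p + 1)) * (p + 2)) (h := h) (by omega)
        (by rw [← hh]; ring)
      have hcop : Nat.Coprime (2 * (p + 1)) (p + 2) := by
        refine Nat.coprime_of_dvd' ?_
        intro r hr h4 h5
        have h6 : r ∣ 2 * (p + 2) := h5.mul_left _
        have h7 : r ∣ 2 := by
          have : 2 * (p + 2) = 2 * (p + 1) + 2 := by ring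
          rw [this] at h6
          exact (Nat.dvd_add_right h4).1 h6
        have h8 : r = 2 := (Nat.prime_dvd_prime_iff_eq hr Nat.prime_two).1 h7
        subst h8
        omega
      obtain ⟨r, hr⟩ := sq_of_cop hcop.symm (show (p + 2) * (2 * (p + 1)) = m ^ 2 by rw [← hm]; ring)
      -- `(r - 1) (r + 1) = 2 ^ k`
      obtain ⟨a, rfl⟩ : ∃ a, r = a + 1 := ⟨r - 1, by
        rcases r with _ | r
        · simp at hr
        · rfl⟩
      have h4 : a * (a + 2) = 2 ^ k := by rw [← hk]; nlinarith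
      obtain ⟨i, hi, hia⟩ := (Nat.dvd_prime_pow Nat.prime_two).1 (Dvd.intro _ h4)
      obtain ⟨l, hl, hla⟩ := (Nat.dvd_prime_pow Nat.prime_two).1 (Dvd.intro_left _ h4)
      have h5 : a = 2 := by
        rcases i with _ | _ | i
        · -- `a = 1`
          rw [pow_zero] at hia
          subst hia
          omega
        · simpa using hia
        · exfalso
          have e0 : 1 ≤ 2 ^ i := Nat.one_le_two_pow
          have e0' : 2 ^ (i + 1 + 1) = 4 * 2 ^ i := by ring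
          rcases l with _ | _ | l
          · rw [pow_zero] at hla; omega
          · rw [zero_add, pow_one] at hla; omega
          · have e1 : 2 ^ (i + 1 + 1) = 4 * 2 ^ i := by ring
            have e2 : 2 ^ (l + 1 + 1) = 4 * 2 ^ l := by ring
            omega
      subst h5
      obtain rfl : p = 7 := by omega
      revert hdv
      norm_num
    · have : t = p * (p ^ 2 + 3 * p + 3) := by nlinarith
      subst this
      obtain ⟨m, rfl, hm⟩ := sq_cancel (p := p) (i := 1) (c := (2 * (p + 1)) * (p ^ 2 + 3 * p + 3)) (h := h) (by omega)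
        (by rw [← hh]; ring)
      have hcop : Nat.Coprime (2 * (p + 1)) (p ^ 2 + 3 * p + 3) := by
        refine Nat.Coprime.mul_left ?_ ?_
        · refine Nat.coprime_two_left.2 (Nat.odd_iff.2 ?_)
          obtain ⟨c, rfl⟩ : ∃ c, p = 2 * c + 1 := ⟨p / 2, by omega⟩
          have : (2 * c + 1) ^ 2 + 3 * (2 * c + 1) + 3 = 2 * (2 * c ^ 2 + 5 * c + 3) + 1 := by ring
          omega
        · refine Nat.coprime_of_dvd' ?_
          intro r hr h4 h5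
          have h6 : p ^ 2 + 3 * p + 3 = (p + 1) * (p + 2) + 1 := by ring
          rw [h6] at h5
          exact (Nat.dvd_add_right (h4.mul_right _)).1 h5
      obtain ⟨r, hr⟩ := sq_of_cop hcop.symm (show (p ^ 2 + 3 * p + 3) * (2 * (p + 1)) = m ^ 2 by rw [← hm]; ring)
      have h4 : p + 1 < r := by nlinarith
      have h5 : r < p + 2 := by nlinarith
      omega

end Cfsg.Agent.H303.E1
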