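import Cfsg.Agent.H303.E1.Lx
import Cfsg.Agent.H303.E1.Num
import Cfsg.Agent.H270.Tits.OrdA

/-!
# S3414, E1: the 2-transitive subgroups of `PSL_3(p)`, `p + 1 = 2 ^ k`, on `p ^ 2 + p + 1` points (main result)
-/

set_option autoImplicit false

namespace Cfsg.Agent.H303.E1

open Subgroup MulAction Cfsg.Agent.H384.TwoTrans Cfsg.Agent.H873.Tits Matrix Cfsg.Agent.H523.KA.Perm

universe u v

variable {Ω : Type v} [Finite Ω]

/-- the degree of an affine 2-transitive group -/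
theorem aff_degree {L : Subgroup (Equiv.Perm Ω)} (hL : TwoTr L) (h : Aff L) (h2 : 2 ≤ Nat.card Ω) {r : ℕ} (hr : r.Prime)
    (hd : r ∣ Nat.card Ω) : ∃ e, Nat.card Ω = r ^ e := by
  obtain ⟨W, hW⟩ := AffD.of h
  have hne : Nonempty Ω := (Nat.card_pos_iff.1 (by omega)).1
  obtain ⟨a⟩ := id hne
  have hcard : Nat.card W = Nat.card Ω := by
    refine Nat.card_congr (Equiv.ofBijective (fun w : W => (w : Equiv.Perm Ω) a) ⟨?_, ?_⟩)
    · intro u w e
      exact Subtype.ext (hW.eq u.2 w.2 e)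
    · intro b
      obtain ⟨w, hw, e⟩ := hW.trans a b
      exact ⟨⟨w, hw⟩, e⟩
  have := Fact.mk hr
  obtain ⟨u, hu⟩ := exists_prime_orderOf_dvd_card' (G := W) r (by rw [hcard]; exact hd)
  have hu1 : (u : Equiv.Perm Ω) ≠ 1 := by
    intro h1
    have h3 : u = 1 := Subtype.ext h1
    rw [h3, orderOf_one] at hu
    exact hr.one_lt.ne hu
  have hp : IsPGroup r W := by
    rw [IsPGroup.iff_orderOf]
    intro g
    by_cases hg : (g : Equiv.Perm Ω) = 1
    · refine ⟨0, ?_⟩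
      have : g = 1 := Subtype.ext hg
      rw [this, orderOf_one, pow_zero]
    · refine ⟨1, ?_⟩
      have h3 := hW.orderOf_eq hL g.2 u.2 hg hu1
      rw [Subgroup.orderOf_coe, Subgroup.orderOf_coe] at h3
      rw [h3, hu, pow_one]
  obtain ⟨e, he⟩ := IsPGroup.iff_card.1 hp
  exact ⟨e, by rw [← hcard, he]⟩

/-- the index of a 2-transitive subgroup -/
theorem idx_dvd {L L' : Subgroup (Equiv.Perm Ω)} {p : ℕ} (hL : PSLType L p 3 1) (h3 : 3 ≤ p) (hL' : TwoTr L') (hle : L' ≤ L) :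
    L'.relIndex L ∣ 2 * p ^ 2 * (p - 1) ^ 2 := by
  obtain ⟨X, -, -, hΩ, hX, hdvd⟩ := card_L hL h3
  have h1 := H270.Tits.card_twoTr hL' (n := p ^ 2 + p) (by nlinarith) hΩ
  have h2 := (L'.subgroupOf L).card_mul_index
  rw [Nat.card_congr (Subgroup.subgroupOfEquivOfLe hle).toEquiv] at h2
  have h4 : (p ^ 2 + p + 1) * (p ^ 2 + p) * L'.relIndex L ∣ 2 * (p ^ 3 * (p ^ 3 - 1) * (p ^ 2 - 1)) := by
    rw [← hX]
    refine (Nat.mul_dvd_mul_right h1 _).trans ?_
    have h5 : Nat.card L' * L'.relIndex L = Nat.card L := h2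
    rw [h5]
    refine hdvd.trans (dvd_of_eq (by ring))
  obtain ⟨a, rfl⟩ : ∃ a, p = a + 1 := ⟨p - 1, by omega⟩
  have e1 : (a + 1) ^ 3 - 1 = ((a + 1) ^ 2 + (a + 1) + 1) * a := by
    have : (a + 1) ^ 3 = ((a + 1) ^ 2 + (a + 1) + 1) * a + 1 := by ring
    omega
  have e2 : (a + 1) ^ 2 - 1 = (a + 1 + 1) * a := by
    have : (a + 1) ^ 2 = (a + 1 + 1) * a + 1 := by ring
    omega
  rw [e1, e2] at h4
  rw [Nat.add_sub_cancel]
  refine Nat.dvd_of_mul_dvd_mul_left (show 0 < ((a + 1) ^ 2 + (a + 1) + 1) * ((a + 1) ^ 2 + (a + 1)) by positivity)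
    (h4.trans (dvd_of_eq ?_))
  ring

theorem k_le {p k i : ℕ} (hk : p + 1 = 2 ^ k) (h3 : 3 ≤ p) (h : 2 ^ k ∣ i) (hi : i ∣ 2 * p ^ 2 * (p - 1) ^ 2) :
    (k = 2 ∧ p = 3) ∨ (k = 3 ∧ p = 7) := by
  have hk2 : 2 ≤ k := by
    by_contra hcon
    have : 2 ^ k ≤ 2 ^ 1 := Nat.pow_le_pow_right (by norm_num) (by omega)
    omega
  obtain ⟨m, rfl⟩ := Nat.exists_eq_add_of_le' hk2
  have h4 : 2 ^ (m + 2) ∣ 2 * p ^ 2 * (p - 1) ^ 2 := h.trans hi
  obtain ⟨a, ha⟩ : ∃ a, 2 ^ (m + 1) = a + 1 := ⟨2 ^ (m + 1) - 1, by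
    have : 1 ≤ 2 ^ (m + 1) := Nat.one_le_two_pow
    omega⟩
  have ha2 : a % 2 = 1 := by
    have : 2 ^ (m + 1) = 2 * 2 ^ m := by ring
    omega
  have e1 : 2 ^ (m + 2) = 2 * (a + 1) := by rw [← ha]; ring
  have hp : p = 2 * a + 1 := by omega
  have h5 : 2 ^ (m + 2) ∣ 8 * (p ^ 2 * a ^ 2) := by
    refine h4.trans (dvd_of_eq ?_)
    rw [hp, Nat.add_sub_cancel]
    ring
  have hcop : Nat.Coprime (2 ^ (m + 2)) (p ^ 2 * a ^ 2) := by
    refine Nat.Coprime.pow_left _ ?_
    rw [Nat.coprime_two_left, Nat.odd_mul]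
    refine ⟨Odd.pow (Nat.odd_iff.2 (by omega)), Odd.pow (Nat.odd_iff.2 ha2)⟩
  have h6 : 2 ^ (m + 2) ∣ 2 ^ 3 := by
    have := hcop.dvd_of_dvd_mul_right h5
    exact this
  have h7 := (Nat.pow_dvd_pow_iff_le_right (by norm_num : 1 < 2)).1 h6
  have h8 : m = 0 ∨ m = 1 := by omega
  rcases h8 with rfl | rfl
  · left; norm_num at hk; omega
  · right; norm_num at hk; omega

/-- degree 13 -/
theorem no_idx13 {L L' : Subgroup (Equiv.Perm Ω)} (hL : PSLType L 3 3 1) (hL' : TwoTr L') (hle : L' ≤ L)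
    (h : 4 ∣ L'.relIndex L) : False := by
  obtain ⟨X, -, -, hΩ, hX, hdvd⟩ := card_L hL le_rfl
  norm_num at hΩ hX hdvd
  have hnt : Nontrivial Ω := Finite.one_lt_card_iff_nontrivial.1 (by omega)
  have h1 := H270.Tits.card_twoTr hL' (n := 12) (by norm_num) hΩ
  have h2 := (L'.subgroupOf L).card_mul_index
  rw [Nat.card_congr (Subgroup.subgroupOfEquivOfLe hle).toEquiv] at h2
  have h5 : Nat.card L' * L'.relIndex L = Nat.card L := h2
  obtain ⟨a, b, m, n, ha, hb, ham, hbn, hmn, hn⟩ := H270.Tits.prime_degree (by norm_num : Nat.Prime 13) hΩ L' L hle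
    (H270.Tits.pretrans hL')
  have hXL := X.card_mul_index
  rw [hX] at hXL hdvd
  rw [← hXL] at hdvd
  have h6 : X.index ∣ 2 := by
    refine Nat.dvd_of_mul_dvd_mul_left (show 0 < 5616 by norm_num) (hdvd.trans (dvd_of_eq (by norm_num)))
  have h7 : X.index = 1 ∨ X.index = 2 := (Nat.dvd_prime Nat.prime_two).1 h6
  obtain ⟨i', hi'⟩ := h
  rw [ha] at h1 h5
  rw [hb] at h5
  have h8 : 12 ∣ a := Nat.dvd_of_mul_dvd_mul_left (show 0 < 13 by norm_num) (by simpa using h1)
  obtain ⟨a', rfl⟩ := h8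
  rw [hb] at hXL
  have hn' : n ≤ 12 := Nat.le_of_dvd (by norm_num) hn
  have hm' : m ≤ n := Nat.le_of_dvd (Nat.pos_of_dvd_of_pos hn (by norm_num)) hmn
  rw [hi'] at h5
  unfold Nat.ModEq at ham hbn
  have h9 : a' * i' = 9 * X.index := by
    have : 13 * (12 * a') * (4 * i') = 624 * (a' * i') := by ring
    omega
  have ha18 : a' ∣ 18 := by
    refine (Dvd.intro _ h9).trans ?_
    rcases h7 with h7 | h7 <;> simp [h7]
  have ha' : a' ∈ Nat.divisors 18 := Nat.mem_divisors.2 ⟨ha18, by norm_num⟩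
  have d1 : Nat.divisors 18 = {1, 2, 3, 6, 9, 18} := by decide
  rw [d1] at ha'
  simp only [Finset.mem_insert, Finset.mem_singleton] at ha'
  have hn6 : n = 3 ∨ n = 6 := by
    rcases h7 with h7 | h7 <;> omega
  have hm6 : m = 1 ∨ m = 2 ∨ m = 3 ∨ m = 6 := by
    have : m ∣ 6 := hmn.trans (by rcases hn6 with h | h <;> simp [h])
    have hm'' : m ∈ Nat.divisors 6 := Nat.mem_divisors.2 ⟨this, by norm_num⟩
    have d2 : Nat.divisors 6 = {1, 2, 3, 6} := by decide
    rw [d2] at hm''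
    simpa using hm''
  rcases ha' with rfl | rfl | rfl | rfl | rfl | rfl <;> omega

/-- `q ^ d - 1 = 57 (q - 1)` -/
theorem psl57 {q d : ℕ} (hq : IsPrimePow q) (hd : 2 ≤ d) (h : 57 * (q - 1) = q ^ d - 1) : q = 7 ∧ d = 3 := by
  have hq2 : 2 ≤ q := hq.two_le
  rcases Nat.lt_or_ge 2 d with h3 | h3
  · have h4 : q ^ 3 ≤ q ^ d := Nat.pow_le_pow_right (by omega) h3
    have h5 : q ≤ 7 := by
      by_contra hcon
      have h6 : 8 * 8 * q ≤ q ^ 3 := by
        have : q ^ 3 = q * q * q := by ring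
        rw [this]
        exact Nat.mul_le_mul_right q (Nat.mul_le_mul (by omega) (by omega))
      omega
    have h6 : d ≤ 6 := by
      by_contra hcon
      have h7 : q ^ 7 ≤ q ^ d := Nat.pow_le_pow_right (by omega) (by omega)
      have h8 : 2 ^ 6 * q ≤ q ^ 7 := by
        have : q ^ 7 = q ^ 6 * q := by ring
        rw [this]
        exact Nat.mul_le_mul_right q (Nat.pow_le_pow_left hq2 6)
      omega
    interval_cases q <;> interval_cases d <;> simp at h ⊢
  · exfalso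
    obtain rfl : d = 2 := by omega
    have h5 : q ^ 2 - 1 = (q + 1) * (q - 1) := by
      have := Nat.sq_sub_sq q 1
      rwa [one_pow] at this
    rw [h5] at h
    have h6 := Nat.eq_of_mul_eq_mul_right (show 0 < q - 1 by omega) h
    have h7 : q = 56 := by omega
    subst h7
    rw [isPrimePow_iff_card_primeFactors_eq_one] at hq
    revert hq
    rw [show (56 : ℕ) = 2 ^ 3 * 7 by norm_num, Nat.primeFactors_mul (by norm_num) (by norm_num),
      Nat.primeFactors_prime_pow (by norm_num) Nat.prime_two, Nat.Prime.primeFactors (by norm_num : Nat.Prime 7)]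
    decide

/-- degree 57 -/
theorem no_idx57 (hTT : List2.{v}) {L L' : Subgroup (Equiv.Perm Ω)} (hL : PSLType L 7 3 1) (hL' : TwoTr L') (hle : L' ≤ L)
    (h : 8 ∣ L'.relIndex L) : False := by
  obtain ⟨X, -, -, hΩ, hX, hdvd⟩ := card_L hL (by norm_num)
  norm_num at hΩ hX hdvd
  have h2 := (L'.subgroupOf L).card_mul_index
  rw [Nat.card_congr (Subgroup.subgroupOfEquivOfLe hle).toEquiv] at h2
  have h5 : Nat.card L' * L'.relIndex L = Nat.card L := h2
  rcases aff_or_as hL' (by omega) with hA | ⟨T, A⟩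
  · obtain ⟨e, he⟩ := aff_degree hL' hA (by omega) Nat.prime_three (by rw [hΩ]; norm_num)
    rw [hΩ] at he
    have h6 : 19 ∣ 3 ^ e := by rw [← he]; norm_num
    have h7 := (by norm_num : Nat.Prime 19).dvd_of_dvd_pow h6
    revert h7
    norm_num
  -- the order of the socle divides the order of `L`
  have hTL : Nat.card T ∣ Nat.card L := (Subgroup.card_subgroup_dvd_card T).trans (Dvd.intro _ h5)
  have hLX : Nat.card L ∣ 6 * Nat.card X := hdvd
  have hX' : Nat.card X = 1876896 := by omega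
  rw [hX'] at hLX
  have hK := hTT A
  generalize hn : Nat.card Ω = n at hK
  rw [hΩ] at hn
  cases hK with
  | alt n h5 e =>
    obtain ⟨e⟩ := e
    have : Nontrivial (Fin n) := Fin.nontrivial_iff_two_le.2 (by omega)
    have h6 := two_mul_nat_card_alternatingGroup (α := Fin n)
    rw [Nat.card_perm, Nat.card_fin] at h6
    have h11 : (11 : ℕ).Prime := by norm_num
    have h7 : 11 ∣ 2 * Nat.card T := by
      rw [Nat.card_congr e.toEquiv, h6]
      exact (h11.dvd_factorial).2 (by omega)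
    have h8 : 11 ∣ Nat.card T := (h11.dvd_mul.1 h7).resolve_left (by norm_num)
    have h9 := (h8.trans hTL).trans hLX
    revert h9
    norm_num
  | psl F d n hd hd2 e hn' =>
    obtain ⟨e⟩ := e
    rw [← hn] at hn'
    obtain ⟨h6, rfl⟩ := psl57 Fintype.isPrimePow_card_of_field hd hn'
    have h7 := card_psl3 h6
    norm_num at h7
    have h8 : Nat.card T = 1876896 := by
      rw [Nat.card_congr e.toEquiv]
      omega
    have h9 : 1876896 * L'.relIndex L ∣ 1876896 * 6 := by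
      have h10 : Nat.card T * L'.relIndex L ∣ Nat.card L := by
        rw [← h5]
        exact Nat.mul_dvd_mul_right (Subgroup.card_subgroup_dvd_card T) _
      rw [h8] at h10
      exact h10.trans (hLX.trans (dvd_of_eq (by norm_num)))
    have h11 := Nat.dvd_of_mul_dvd_mul_left (by norm_num) h9
    have h12 := Nat.le_of_dvd (by norm_num) (h.trans h11)
    omega
  | sp F m n hF hm e hn' =>
    obtain ⟨i, rfl⟩ : ∃ i, m = i + 3 := ⟨m - 3, by omega⟩
    have h6 : 2 ^ (i + 3 - 1) = 4 * 2 ^ i := by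
      rw [show i + 3 - 1 = i + 2 by omega]
      ring
    rw [h6, ← hn, mul_assoc, mul_assoc] at hn'
    omega
  | psu F q n hq hF e hn' =>
    have h6 : q ≤ 3 := by
      by_contra hcon
      have : 4 ^ 3 ≤ q ^ 3 := Nat.pow_le_pow_left (by omega) 3
      omega
    have h7 : q = 3 := by omega
    subst h7
    omega
  | sz F m n hm hF e hn' =>
    have h6 : Fintype.card F ^ 2 = 56 := by omega
    have h7 : Fintype.card F ≤ 7 := by
      by_contra hcon
      have : 8 ^ 2 ≤ Fintype.card F ^ 2 := Nat.pow_le_pow_left (by omega) 2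
      omega
    have h8 : Fintype.card F ^ 2 ≤ 7 ^ 2 := Nat.pow_le_pow_left h7 2
    omega
  | ree K m n hm hK e hn' =>
    have h6 : 3 ^ 3 ≤ Fintype.card K := by
      rw [hK]
      exact Nat.pow_le_pow_right (by norm_num) (by omega)
    have h7 : 27 ^ 3 ≤ Fintype.card K ^ 3 := Nat.pow_le_pow_left (by omega) 3
    omega
  | psl2_8 F hF e => omega
  | psl2_9 F hF e => omega
  | psl2_11 F hF e => omega
  | psl4_2 F hF e => omega
  | a7 e => omega
  | m11 h' => omega
  | m11' h' => omega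
  | m12 h' => omega
  | m22 h' => omega
  | m23 h' => omega
  | m24 h' => omega
  | hs h' => omega
  | co3 h' => omega

/-- **the index of a 2-transitive subgroup is not divisible by `2 ^ k`** -/
theorem no_idx3 (hTT : List2.{v}) {L L' : Subgroup (Equiv.Perm Ω)} {p k : ℕ} (hL : PSLType L p 3 1) (h3 : 3 ≤ p)
    (hk : p + 1 = 2 ^ k) (hL' : TwoTr L') (hle : L' ≤ L) (h : 2 ^ k ∣ L'.relIndex L) : False := by
  rcases k_le hk h3 h (idx_dvd hL h3 hL' hle) with ⟨rfl, rfl⟩ | ⟨rfl, rfl⟩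
  · exact no_idx13 hL hL' hle h
  · exact no_idx57 hTT hL hL' hle h

end Cfsg.Agent.H303.E1
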