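import Cfsg.Agent.H303.E1.OutB
import Cfsg.Agent.H873.Tits.Stmts

/-!
# S3414, E1: the index of a 2-transitive subgroup
-/

set_option autoImplicit false

namespace Cfsg.Agent.H303.E1

open Subgroup MulAction Cfsg.Agent.H384.TwoTrans Cfsg.Agent.H873.Tits

universe u v

/-- the list of the 2-transitive groups with non-abelian socle -/
def List2 : Prop := ∀ {G Ω : Type v} [Group G] [MulAction G Ω] {T : Subgroup G}, AS G Ω T → Known2 ↥T (Nat.card Ω)

variable {Ω : Type v} [Finite Ω]

/-- affine or almost simple -/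
theorem aff_or_as {L : Subgroup (Equiv.Perm Ω)} (hL : TwoTr L) (h3 : 3 ≤ Nat.card Ω) :
    Aff L ∨ ∃ T : Subgroup L, AS L Ω T := by
  have h2 : IsMultiplyPretransitive L Ω 2 := by
    rw [is_two_pretransitive_iff]
    intro a b c d hab hcd
    obtain ⟨g, hg, h1, h2⟩ := hL a b c d hab hcd
    exact ⟨⟨g, hg⟩, h1, h2⟩
  rcases reduction h2 h3 with ⟨N, hN, -, hNc, -, htr, hreg⟩ | ⟨T, A⟩
  · left
    have hinj := L.subtype_injective
    let e : N ≃* N.map L.subtype := N.equivMapOfInjective _ hinj
    refine ⟨N.map L.subtype, ?_, ?_, ?_, ⟨?_⟩, ?_⟩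
    · rintro _ ⟨x, -, rfl⟩
      exact x.2
    · have h1 : (N.map L.subtype).subgroupOf L = N := by
        ext x
        constructor
        · rintro ⟨y, hy, hyx⟩
          have : y = x := hinj hyx
          rwa [← this]
        · intro hx
          exact ⟨x, hx, rfl⟩
      rw [h1]
      exact hN
    · exact ⟨⟨fun x y => e.symm.injective (by rw [map_mul, map_mul, hNc.is_comm.comm])⟩⟩
    · intro x y
      obtain ⟨n, hn, h⟩ := htr x y
      exact ⟨⟨n, ⟨n, hn, rfl⟩⟩, h⟩
    · intro x
      rw [eq_bot_iff]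
      rintro ⟨_, n, hn, rfl⟩ hnx
      rw [mem_bot]
      have h1 := hreg x n hn hnx
      apply Subtype.ext
      change (n : Equiv.Perm Ω) = 1
      rw [h1]
      rfl
  · exact Or.inr ⟨T, A⟩

/-- `|G|` divides `|Aut T|` -/
theorem card_dvd_mulAut {G : Type*} [Group G] [Finite G] {T : Subgroup G} [T.Normal]
    (hc : Subgroup.centralizer (T : Set G) = ⊥) : Nat.card G ∣ Nat.card (MulAut T) := by
  have h1 : Function.Injective (MulAut.conjNormal (H := T) : G →* MulAut T) := by
    rw [injective_iff_map_eq_one]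
    intro g hg
    have h2 : g ∈ Subgroup.centralizer (T : Set G) := by
      rw [Subgroup.mem_centralizer_iff]
      intro t ht
      have h3 := congrArg (fun f : MulAut T => ((f ⟨t, ht⟩ : T) : G)) hg
      simp only [MulAut.conjNormal_apply, MulAut.one_apply] at h3
      rw [mul_inv_eq_iff_eq_mul] at h3
      exact h3.symm
    rw [hc, Subgroup.mem_bot] at h2
    exact h2
  have h2 := Nat.card_congr (MonoidHom.ofInjective h1).toEquiv
  rw [h2]
  exact Subgroup.card_subgroup_dvd_card _

/-- **the index of `L'` is not divisible by `2 ^ k`** -/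
theorem no_idx (hTT : List2.{v}) (hT2 : StTab2.{v}) {L L' : Subgroup (Equiv.Perm Ω)} {t p k : ℕ} {a b : Ω}
    {Q : Subgroup (Equiv.Perm Ω)} (hLQ : LQ L t p a b Q) (hL' : TwoTr L') (hle : L' ≤ L) (hAff : ¬ Aff L) (h3 : 3 ≤ p)
    (hk : p + 1 = 2 ^ k) (ht : t = p ^ 3 ∨ (p = 7 ∧ t = p ^ 2)) (h2 : 2 ^ k ∣ L'.relIndex L) : False := by
  have hp := hLQ.prime
  have hcard := hLQ.card
  have h27 : 27 ≤ t := by
    rcases ht with rfl | ⟨rfl, rfl⟩
    · exact Nat.pow_le_pow_left h3 3
    · norm_num
  have hk0 : 2 ≤ k := by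
    by_contra hcon
    have : 2 ^ k ≤ 2 ^ 1 := Nat.pow_le_pow_right (by norm_num) (by omega)
    omega
  rcases aff_or_as hLQ.two (by omega) with h | ⟨T, A⟩
  · exact hAff h
  have hTn := A.normal
  have hTs := A.simple
  have hB := outB hp h3 hk ht hcard (hTT A)
  -- the socle is in `L'`
  have hTL' : T ≤ L'.subgroupOf L := by
    have htp : ∃ j, t = p ^ j := by
      rcases ht with h | ⟨-, h⟩
      · exact ⟨3, h⟩
      · exact ⟨2, h⟩
    have h2d : 2 ∣ L'.relIndex L := (dvd_pow_self 2 (by omega)).trans h2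
    rcases hT2 L L' t p a b Q hLQ hL' hle htp hAff Nat.prime_two (by omega) h2d with ⟨X, hX, hXn, hXs, hXm⟩ | ⟨h, -⟩
    · have h1 : X ≤ T.map L.subtype := by
        refine hXm _ ?_ ?_ ?_
        · rintro _ ⟨x, -, rfl⟩
          exact x.2
        · have h1 : (T.map L.subtype).subgroupOf L = T := by
            ext x
            constructor
            · rintro ⟨y, hy, hyx⟩
              have : y = x := L.subtype_injective hyx
              rwa [← this]
            · intro hx
              exact ⟨x, hx, rfl⟩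
          rw [h1]
          exact hTn
        · intro h
          rw [Subgroup.map_eq_bot_iff_of_injective _ L.subtype_injective] at h
          exact A.ne_bot h
      have h5 : X.subgroupOf L ≤ T := by
        intro x hx
        obtain ⟨y, hy, hyx⟩ := h1 hx
        have : y = x := L.subtype_injective hyx
        rwa [← this]
      have h6 : (X.subgroupOf L).subgroupOf T = ⊤ := by
        have hn : ((X.subgroupOf L).subgroupOf T).Normal := Subgroup.Normal.subgroupOf hXn T
        rcases hTs.eq_bot_or_eq_top_of_normal _ hn with h | h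
        · exfalso
          have hne : a ≠ b := hLQ.ne
          obtain ⟨τ, hτ, hτ1, -⟩ := hXs a b hne
          have hτL : τ ∈ L := hle (hX hτ)
          have hτT : (⟨τ, hτL⟩ : L) ∈ T := h5 hτ
          have h7 : (⟨⟨τ, hτL⟩, hτT⟩ : T) ∈ (X.subgroupOf L).subgroupOf T := hτ
          rw [h, Subgroup.mem_bot] at h7
          have h8 : τ = 1 := congrArg (fun w : T => ((w : L) : Equiv.Perm Ω)) h7
          rw [h8] at hτ1
          exact hne hτ1
        · exact h
      intro x hx
      have h7 : (⟨x, hx⟩ : T) ∈ (X.subgroupOf L).subgroupOf T := by rw [h6]; exact Subgroup.mem_top _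
      exact hX h7
    · omega
  have hidx : 2 ^ k ∣ T.index := by
    refine h2.trans ?_
    exact Subgroup.index_dvd_of_le hTL'
  have hTi := T.card_mul_index
  have hT0 : 0 < Nat.card T := Nat.card_pos
  have h4 : 4 ∣ T.index := by
    refine Dvd.dvd.trans ?_ hidx
    obtain ⟨i, rfl⟩ := Nat.exists_eq_add_of_le' hk0
    exact Dvd.intro_left (2 ^ i) (by ring)
  rcases hB with h | ⟨c, hc, hkc⟩
  · have h5 : Nat.card L ∣ (Nat.card Ω).factorial := by
      rw [← Nat.card_perm]
      exact Subgroup.card_subgroup_dvd_card L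
    rw [← hTi, ← h, mul_comm 2] at h5
    have h6 := (Nat.mul_dvd_mul_iff_left hT0).1 h5
    have h7 := Nat.le_of_dvd (by norm_num) (h4.trans h6)
    omega
  · have h5 := (card_dvd_mulAut A.cent).trans hc
    rw [← hTi, mul_comm c] at h5
    have h6 := (Nat.mul_dvd_mul_iff_left hT0).1 h5
    exact hkc (hidx.trans h6)

end Cfsg.Agent.H303.E1
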