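import Cfsg.Agent.H303.E1.Orb
import Cfsg.Agent.H303.E1.Lx2
import Cfsg.Agent.H873.Tits.AsmA

/-!
# S3414, [E1]: `L x` of type `PSL_3(p)`, `p + 1 = 2 ^ k`, in case (A)
-/

set_option autoImplicit false

namespace Cfsg.Agent.H303.E1

open Cfsg.Agent.H873.Tits Cfsg.Agent.H640.Tits

universe u v

variable {G : Type u} [Group G] {V : Type v} [MulAction G V] {P : Pol G V} {p : ℕ}

/-- the index at `y` -/
theorem idx_y [Finite G] [Finite V] (F : Facts P) (hS : StStar.{u, v}) (hA : CaseA P p) (hp2 : p ≠ 2) (hn : P.n = 4)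
    {x y y' : V} (hxy : P.adj x y) (hs : P.q (P.tp x) = p * (p + 1)) (hodd : Odd (P.q (P.tp y)))
    (ht : 2 * (p + 1) ≤ P.q (P.tp y)) (hlt : P.q (P.tp x) < 2 * P.q (P.tp y)) {k : ℕ} (hk : p + 1 = 2 ^ k)
    (ho : P.Opp y y') : 2 ^ k ∣ P.idx y y' := by
  have hfac2 : Fact (Nat.Prime 2) := ⟨Nat.prime_two⟩
  have h1 : ¬ 2 ^ (k + 1) ∣ Nat.card (P.K y) := by
    intro hd
    obtain ⟨R, hR⟩ := Sylow.exists_subgroup_card_pow_prime 2 hd
    refine no_big F hS hA hp2 hn hxy hs hodd ht hlt (R.map (P.K y).subtype) (Subgroup.map_subtype_le R) ?_ ?_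
    · exact (IsPGroup.of_card hR).map _
    · rw [Nat.card_congr (R.equivMapOfInjective _ (P.K y).subtype_injective).symm.toEquiv, hR, hk]
      ring
  have h2 := F.count_opp ho
  rw [hn] at h2
  have htp : (!P.tp y) = P.tp x := by rw [P.tp_adj hxy, Bool.not_not]
  rw [htp, hs] at h2
  have h3 : 2 ^ (k + k) ∣ P.idx y y' * Nat.card (P.K y) := by
    rw [h2]
    refine Dvd.dvd.mul_right (Dvd.dvd.mul_left ?_ _) _
    norm_num
    rw [hk, mul_pow]
    exact Dvd.dvd.mul_left (dvd_of_eq (by ring)) _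
  have h4 : P.idx y y' ≠ 0 := by
    intro h0
    rw [h0, zero_mul] at h2
    have h5 : 0 < P.q (P.tp y) ^ (4 / 2 - 1) * (p * (p + 1)) ^ (4 / 2) * Nat.card ↥(P.K y ⊓ P.S y') := by
      have e1 := P.two_le (P.tp y)
      have e2 : 0 < Nat.card ↥(P.K y ⊓ P.S y') := Nat.card_pos
      have e3 := hA.prime.pos
      positivity
    omega
  have h5 : Nat.card (P.K y) ≠ 0 := Nat.card_pos.ne'
  rw [Nat.prime_two.pow_dvd_iff_le_factorization (Nat.mul_ne_zero h4 h5), Nat.factorization_mul h4 h5] at h3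
  rw [Nat.prime_two.pow_dvd_iff_le_factorization h5] at h1
  rw [Nat.prime_two.pow_dvd_iff_le_factorization h4]
  rw [Finsupp.add_apply] at h3
  omega

/-- **[E1]**, from the list of the 2-transitive groups, (*), the key lemma in the affine case and TAB2 -/
theorem st_e1_of (hTT : List2.{v}) (hS : StStar.{u, v}) (hKA : StKeyAff.{u, v}) (hT2 : StTab2.{v}) : StE1.{u, v} := by
  intro G _ _ V _ _ P F N _ p hA x y hxy hPSL hk0 hy
  obtain ⟨k, hk⟩ := hk0
  have hp := hA.prime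
  obtain ⟨h3, hodd, -⟩ := two_lt hp hk
  have hs : P.q (P.tp x) = p * (p + 1) := by
    obtain ⟨-, -, -, hc, -⟩ := card_L hPSL h3
    rw [P.card_nb] at hc
    nlinarith
  have htp : P.tp y = !P.tp x := P.tp_adj hxy
  have hN : NumC P.n (P.q (P.tp x)) (P.q (P.tp y)) := by rw [htp]; exact numC N _
  have ht2 := P.two_le (P.tp y)
  have hcy : Nat.card {w : V // P.adj y w} = P.q (P.tp y) + 1 := P.card_nb y
  by_cases hAff : Aff (P.L y)
  · have hpt : p ∣ P.q (P.tp y) := p_dvd F hA (P.symm hxy)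
    by_cases h2 : 2 ∣ P.q (P.tp y) + 1
    · obtain ⟨e, he⟩ := aff_degree (twoTr_L F y) hAff (by omega) Nat.prime_two (by rw [hcy]; exact h2)
      rw [hcy] at he
      exact num_aff P.hn hN hp hk hs ht2 he hpt
    · obtain ⟨x', hx'⟩ := F.exists_opp x
      have h4 := hKA P F hA hxy hx' Nat.prime_two (by omega) hAff (Or.inr (Or.inl h2))
      have hi0 : P.idx x x' ≠ 0 := ((P.L' x x').subgroupOf (P.L x)).index_ne_zero_of_finite
      have h5 : 2 ^ k ∣ P.idx x x' := by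
        rw [Nat.prime_two.pow_dvd_iff_le_factorization hi0]
        refine le_trans ?_ h4
        rw [← Nat.prime_two.pow_dvd_iff_le_factorization (by have := P.two_le (P.tp x); omega), hs, ← hk]
        exact Dvd.intro_left _ rfl
      exact no_idx3 hTT hPSL h3 hk (twoTr_L' F hx') L'_le_L h5
  · have hj : ∃ j, P.q (P.tp y) = p ^ j := hy.resolve_left hAff
    obtain ⟨j, hj⟩ := hj
    obtain ⟨hn, hj'⟩ := num_pow P.hn hN hp hk hs hj
    have ht : P.q (P.tp y) = p ^ 3 ∨ (p = 7 ∧ P.q (P.tp y) = p ^ 2) := by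
      rcases hj' with rfl | ⟨h7, rfl⟩
      · exact Or.inl hj
      · exact Or.inr ⟨h7, hj⟩
    obtain ⟨y', hy'⟩ := F.exists_opp y
    have hto : Odd (P.q (P.tp y)) := by
      rw [hj]
      exact Odd.pow (Nat.odd_iff.2 hodd)
    have h6 : 2 * (p + 1) ≤ P.q (P.tp y) ∧ P.q (P.tp x) < 2 * P.q (P.tp y) := by
      rw [hs]
      rcases ht with h | ⟨h7, h⟩
      · rw [h]
        constructor <;> nlinarith [Nat.pow_le_pow_left h3 2]
      · rw [h, h7]
        norm_num
    have h7 := idx_y F hS hA (by omega) hn hxy hs hto h6.1 h6.2 hk hy'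
    obtain ⟨z, hz, hxz⟩ := exists_other (P := P) (x := y) (y := x)
    obtain ⟨Q, hQ⟩ := lq F hA (P.symm hxy) hz hxz
    exact no_idx hTT hT2 hQ (twoTr_L' F hy') L'_le_L hAff h3 hk ht h7

end Cfsg.Agent.H303.E1
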