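import Cfsg.Agent.H303.E1.Quad
import Cfsg.Agent.H523.KA.Base

/-!
# S3414, E1: the orbits of `O_p(K y)` on the neighbours of `x`, `s = p (p + 1)`
-/

set_option autoImplicit false

namespace Cfsg.Agent.H303.E1

open Cfsg Cfsg.Agent.H873.Tits Cfsg.Agent.H640.Tits Cfsg.Agent.H523.KA.Base

universe u v

variable {G : Type u} [Group G] {V : Type v} [MulAction G V] {P : Pol G V} {p : ℕ}

/-- orbit of `O_p(K y)` -/
def Ob (P : Pol G V) (p : ℕ) (y w : V) : Set V := {w' | ∃ a ∈ Q P p y, a • w = w'}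

theorem trans_H (F : Facts P) {x y w w' : V} (hxy : P.adj x y) (hw : P.adj x w) (hwy : w ≠ y) (hw' : P.adj x w') (hwy' : w' ≠ y) :
    ∃ g : G, g • x = x ∧ g • y = y ∧ g • w = w' := by
  obtain ⟨g, h1, h2, h3⟩ := F.two_trans hxy hw hwy.symm hxy hw' hwy'.symm
  exact ⟨g, h1, h2, h3⟩

theorem Q_fix {x y : V} (hxy : P.adj x y) {a : G} (ha : a ∈ Q P p y) : a • x = x ∧ a • y = y :=
  ⟨(Q_le_K P p y ha).2 x (P.symm hxy), (Q_le_K P p y ha).1⟩

theorem Ob_sub {x y w w' : V} (hxy : P.adj x y) (hw : P.adj x w) (hwy : w ≠ y) (h : w' ∈ Ob P p y w) : P.adj x w' ∧ w' ≠ y := by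
  obtain ⟨a, ha, rfl⟩ := h
  obtain ⟨h1, h2⟩ := Q_fix hxy ha
  refine ⟨?_, ?_⟩
  · have := P.smul_adj a hw
    rwa [h1] at this
  · intro h3
    exact hwy (smul_left_cancel a (h3.trans h2.symm))

theorem self_mem_Ob (y w : V) : w ∈ Ob P p y w := ⟨1, one_mem _, one_smul _ _⟩

theorem Ob_eq {y w w' : V} (h : w' ∈ Ob P p y w) : Ob P p y w' = Ob P p y w := by
  obtain ⟨a, ha, rfl⟩ := h
  ext v
  constructor
  · rintro ⟨b, hb, rfl⟩
    exact ⟨b * a, mul_mem hb ha, mul_smul _ _ _⟩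
  · rintro ⟨b, hb, rfl⟩
    exact ⟨b * a⁻¹, mul_mem hb (inv_mem ha), by rw [mul_smul, inv_smul_smul]⟩

theorem ncard_dvd [Finite V] (F : Facts P) {x y w : V} (hxy : P.adj x y) (hw : P.adj x w) (hwy : w ≠ y) :
    (Ob P p y w).ncard ∣ P.q (P.tp x) := by
  let H : Subgroup G := P.S x ⊓ P.S y
  let N : Subgroup H := (Q P p y).subgroupOf H
  have hN : N.Normal := ⟨fun a ha g => conj_mem_Q' P p g.2.2 ha⟩
  let w₀ : MulAction.orbit H w := ⟨w, MulAction.mem_orbit_self w⟩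
  have h1 : MulAction.IsBlock H (MulAction.orbit N w₀) := MulAction.IsBlock.orbit_of_normal w₀
  have h2 := h1.ncard_dvd_card ⟨w₀, MulAction.mem_orbit_self w₀⟩
  have h3 : MulAction.orbit H w = {w' | P.adj x w' ∧ w' ≠ y} := by
    ext w'
    constructor
    · rintro ⟨g, rfl⟩
      have e1 : (g : G) • x = x := g.2.1
      have e2 : (g : G) • y = y := g.2.2
      refine ⟨?_, ?_⟩
      · have := P.smul_adj (g : G) hw
        rwa [e1] at this
      · intro h3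
        exact hwy (smul_left_cancel (g : G) (h3.trans e2.symm))
    · rintro ⟨h, h'⟩
      obtain ⟨g, g1, g2, g3⟩ := trans_H F hxy hw hwy h h'
      exact ⟨⟨g, g1, g2⟩, g3⟩
  have h4 : Nat.card (MulAction.orbit H w) = P.q (P.tp x) := by
    rw [h3]
    exact card_sub hxy
  have h5 : (Subtype.val '' (MulAction.orbit N w₀)) = Ob P p y w := by
    ext v
    constructor
    · rintro ⟨_, ⟨n, rfl⟩, rfl⟩
      exact ⟨((n : H) : G), n.2, rfl⟩
    · rintro ⟨a, ha, rfl⟩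
      obtain ⟨e1, e2⟩ := Q_fix hxy ha
      exact ⟨(⟨⟨a, e1, e2⟩, ha⟩ : N) • w₀, ⟨_, rfl⟩, rfl⟩
  rw [← h5, Set.ncard_image_of_injective _ Subtype.val_injective, ← h4]
  exact h2

theorem ncard_pow [Finite V] (F : Facts P) (hA : CaseA P p) {x y w : V} (hxy : P.adj x y) (hw : P.adj x w) (hwy : w ≠ y) :
    ∃ n, (Ob P p y w).ncard = p ^ (n + 1) := by
  have := Fact.mk hA.prime
  have h2 : ∃ n, (Ob P p y w).ncard = p ^ n := by
    obtain ⟨n, hn⟩ := (isPGroup_Q P p y).card_orbit w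
    refine ⟨n, ?_⟩
    rw [← hn]
    have : Ob P p y w = MulAction.orbit (Q P p y) w := by
      ext v
      exact ⟨fun ⟨a, ha, e⟩ => ⟨⟨a, ha⟩, e⟩, fun ⟨a, e⟩ => ⟨a, a.2, e⟩⟩
    rw [this]
    rfl
  obtain ⟨n, hn⟩ := h2
  rcases n with _ | n
  · exfalso
    rw [pow_zero, Set.ncard_eq_one] at hn
    obtain ⟨v, hv⟩ := hn
    have hfix : ∀ a ∈ Q P p y, a • w = w := by
      intro a ha
      have e1 : a • w ∈ Ob P p y w := ⟨a, ha, rfl⟩
      have e2 := self_mem_Ob (P := P) (p := p) y w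
      rw [hv] at e1 e2
      exact e1.trans e2.symm
    obtain ⟨a, ha, hax⟩ := exists_mem_Q hA hxy
    apply hax
    refine ⟨(Q_fix hxy ha).1, fun w' hw' => ?_⟩
    by_cases hy : w' = y
    · rw [hy]; exact (Q_fix hxy ha).2
    · obtain ⟨g, g1, g2, g3⟩ := trans_H F hxy hw hwy hw' hy
      have h4 := conj_mem_Q' P p (y := y) (g := g⁻¹) (by
        change g⁻¹ • y = y
        rw [inv_smul_eq_iff, g2]) ha
      have h5 := hfix _ h4
      rw [inv_inv, mul_smul, mul_smul, g3, inv_smul_eq_iff, g3] at h5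
      exact h5
  · exact ⟨n, hn⟩

/-- `p` divides `s` -/
theorem p_dvd [Finite V] (F : Facts P) (hA : CaseA P p) {x y : V} (hxy : P.adj x y) : p ∣ P.q (P.tp x) := by
  obtain ⟨w, hw, hwy, -⟩ := third P x y y
  obtain ⟨n, hn⟩ := ncard_pow F hA hxy hw hwy
  have h := ncard_dvd (p := p) F hxy hw hwy
  rw [hn] at h
  exact (dvd_pow_self p (by omega)).trans h

theorem ncard_Ob [Finite V] (F : Facts P) (hA : CaseA P p) {x y w : V} (hxy : P.adj x y) (hw : P.adj x w) (hwy : w ≠ y)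
    (hs : P.q (P.tp x) = p * (p + 1)) : (Ob P p y w).ncard = p := by
  have h1 := ncard_dvd (p := p) F hxy hw hwy
  obtain ⟨n, hn⟩ := ncard_pow F hA hxy hw hwy
  rw [hn, hs] at h1
  rcases n with _ | n
  · rw [hn, zero_add, pow_one]
  · exfalso
    have h3 : p * p ∣ p * (p + 1) := by
      refine Dvd.dvd.trans ⟨p ^ n, ?_⟩ h1
      ring
    have h4 := (Nat.mul_dvd_mul_iff_left hA.prime.pos).1 h3
    have h5 := (Nat.dvd_add_right (dvd_refl p)).1 h4
    exact hA.prime.one_lt.ne' (Nat.dvd_one.1 h5)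

/-- an element of `K y` preserves all `O_p(K y)`-orbits -/
def Pres (P : Pol G V) (p : ℕ) (x y : V) (r : G) : Prop := ∀ w, P.adj x w → w ≠ y → r • w ∈ Ob P p y w

theorem Pres.pow {x y : V} (hxy : P.adj x y) {r : G} (h : Pres P p x y r) (m : ℕ) : Pres P p x y (r ^ m) := by
  induction m with
  | zero =>
    intro w _ _
    rw [pow_zero, one_smul]
    exact self_mem_Ob y w
  | succ m ih =>
    intro w hw hwy
    have h1 := ih w hw hwy
    obtain ⟨h2, h3⟩ := Ob_sub hxy hw hwy h1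
    rw [pow_succ', mul_smul]
    have h4 := h _ h2 h3
    rwa [Ob_eq h1] at h4

/-- (*) -/
theorem pres_of_star [Finite G] [Finite V] (F : Facts P) (hS : StStar.{u, v}) (hA : CaseA P p) {x y w : V} (hxy : P.adj x y)
    (hw : P.adj x w) (hwy : w ≠ y) {r : G} (hr : r ∈ P.K y) (h : r • w ∈ Ob P p y w) : Pres P p x y r := by
  intro w₂ hw₂ hwy₂
  obtain ⟨a, ha, e⟩ := h
  obtain ⟨b, hb, e'⟩ := hS P F hA hxy hw hwy hw₂ hwy₂ (Q P p y) (Q_le_K P p y) (normal_Q P p y) (isPGroup_Q P p y)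
    (fun Q' h1 h2 h3 => le_Q P p h1 (fun g hg a ha => h2.conj_mem ⟨a, P.K_le_S y (h1 ha)⟩ ha ⟨g, P.K_le_S y hg⟩) h3)
    r hr ⟨a, ha, e.symm⟩
  exact ⟨b, hb, e'.symm⟩

/-- an involution preserving the orbits fixes at least three neighbours of `x` -/
theorem three_fixed [Finite V] (F : Facts P) (hA : CaseA P p) (hp2 : p ≠ 2) {x y : V} (hxy : P.adj x y)
    (hs : P.q (P.tp x) = p * (p + 1)) {z : G} (hz : z ∈ P.K y) (hz2 : z ^ 2 = 1) (h : Pres P p x y z) :
    3 ≤ (Fx P z x).ncard := by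
  classical
  have hfac2 : Fact (Nat.Prime 2) := ⟨Nat.prime_two⟩
  have hodd : ¬ 2 ∣ p := fun hd => hp2 ((Nat.prime_dvd_prime_iff_eq Nat.prime_two hA.prime).1 hd).symm
  have key : ∀ w, P.adj x w → w ≠ y → ∃ f ∈ Ob P p y w, z • f = f := by
    intro w hw hwy
    have hc := ncard_Ob F hA hxy hw hwy hs
    have hinv : ∀ v, v ∈ Ob P p y w → z • v ∈ Ob P p y w := by
      intro v hv
      obtain ⟨h1, h2⟩ := Ob_sub hxy hw hwy hv
      have := h v h1 h2
      rwa [Ob_eq hv] at this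
    have hzz : ∀ v : V, z • z • v = v := by
      intro v
      rw [← mul_smul, ← pow_two, hz2, one_smul]
    have := Fintype.ofFinite (Ob P p y w)
    let σ : Equiv.Perm (Ob P p y w) :=
      { toFun := fun v => ⟨z • v.1, hinv v.1 v.2⟩
        invFun := fun v => ⟨z • v.1, hinv v.1 v.2⟩
        left_inv := fun v => Subtype.ext (hzz v.1)
        right_inv := fun v => Subtype.ext (hzz v.1) }
    have hσ : σ ^ 2 ^ 1 = 1 := by
      rw [pow_one, pow_two]
      ext v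
      exact hzz v.1
    obtain ⟨f, hf⟩ := Equiv.Perm.exists_fixed_point_of_prime (p := 2) (by
      rw [← Nat.card_eq_fintype_card, Nat.card_coe_set_eq, hc]
      exact hodd) hσ
    exact ⟨f.1, f.2, congrArg Subtype.val hf⟩
  obtain ⟨w, hw, hwy, -⟩ := third P x y y
  obtain ⟨f, hf, hzf⟩ := key w hw hwy
  -- a second orbit
  have h2 : ∃ w₂, (P.adj x w₂ ∧ w₂ ≠ y) ∧ w₂ ∉ Ob P p y w := by
    by_contra hcon
    push Not at hcon
    have h3 : ({w₂ | P.adj x w₂ ∧ w₂ ≠ y} : Set V) ⊆ Ob P p y w := fun v hv => hcon v hv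
    have h4 := Set.ncard_le_ncard h3 (Set.toFinite _)
    have h5 : ({w₂ | P.adj x w₂ ∧ w₂ ≠ y} : Set V).ncard = P.q (P.tp x) := card_sub hxy
    rw [h5, ncard_Ob F hA hxy hw hwy hs, hs] at h4
    have := hA.prime.two_le
    nlinarith
  obtain ⟨w₂, ⟨hw₂, hwy₂⟩, hww₂⟩ := h2
  obtain ⟨f₂, hf₂, hzf₂⟩ := key w₂ hw₂ hwy₂
  have hne : f ≠ f₂ := by
    rintro rfl
    apply hww₂
    have h3 := Ob_eq hf
    rw [Ob_eq hf₂] at h3
    rw [← h3]
    exact self_mem_Ob y w₂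
  obtain ⟨a1, a2⟩ := Ob_sub hxy hw hwy hf
  obtain ⟨b1, b2⟩ := Ob_sub hxy hw₂ hwy₂ hf₂
  have hsub : ({y, f, f₂} : Set V) ⊆ Fx P z x := by
    intro v hv
    rcases hv with rfl | rfl | rfl
    · exact ⟨hxy, hz.1⟩
    · exact ⟨a1, hzf⟩
    · exact ⟨b1, hzf₂⟩
  have h6 := Set.ncard_le_ncard hsub (Set.toFinite _)
  have h7 : ({y, f, f₂} : Set V).ncard = 3 := Set.ncard_eq_three.2 ⟨y, f, f₂, a2.symm, b2.symm, hne, rfl⟩
  omega

/-- **the 2-subgroups of `K y` have order at most `p + 1`** -/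
theorem no_big [Finite G] [Finite V] (F : Facts P) (hS : StStar.{u, v}) (hA : CaseA P p) (hp2 : p ≠ 2) (hn : P.n = 4)
    {x y : V} (hxy : P.adj x y) (hs : P.q (P.tp x) = p * (p + 1)) (hodd : Odd (P.q (P.tp y)))
    (ht : 2 * (p + 1) ≤ P.q (P.tp y)) (hlt : P.q (P.tp x) < 2 * P.q (P.tp y)) (R : Subgroup G) (hR : R ≤ P.K y)
    (hR2 : IsPGroup 2 R) (hc : Nat.card R = 2 * (p + 1)) : False := by
  classical
  have htp : ∀ x', P.adj y x' → P.tp x' = P.tp x := by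
    intro x' h
    rw [P.tp_adj h, P.tp_adj hxy, Bool.not_not]
  -- an involution for every neighbour of `y`
  have key : ∀ x', P.adj y x' → ∃ z ∈ R, z ^ 2 = 1 ∧ z ≠ 1 ∧ 3 ≤ (Fx P z x').ncard := by
    intro x' hyx'
    have hx'y := P.symm hyx'
    have hs' : P.q (P.tp x') = p * (p + 1) := by rw [htp x' hyx', hs]
    obtain ⟨w, hw, hwy, -⟩ := third P x' y y
    have hcO := ncard_Ob F hA hx'y hw hwy hs'
    have hni : ¬ Function.Injective (fun i : R × Ob P p y w => (⟨(i.1 : G) • (i.2 : V), by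
        obtain ⟨h1, h2⟩ := Ob_sub hx'y hw hwy i.2.2
        have e1 : (i.1 : G) • x' = x' := (hR i.1.2).2 x' hyx'
        have e2 : (i.1 : G) • y = y := (hR i.1.2).1
        refine ⟨?_, ?_⟩
        · have := P.smul_adj (i.1 : G) h1
          rwa [e1] at this
        · intro h3
          exact h2 (smul_left_cancel (i.1 : G) (h3.trans e2.symm))⟩ : {v : V // P.adj x' v ∧ v ≠ y})) := by
      intro hinj
      have h1 := Nat.card_le_card_of_injective _ hinj
      rw [Nat.card_prod, hc, Nat.card_coe_set_eq, hcO, card_sub hx'y, hs'] at h1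
      have := hA.prime.pos
      nlinarith
    rw [Function.Injective] at hni
    push Not at hni
    obtain ⟨⟨g, ⟨v, hv⟩⟩, ⟨h, ⟨v', hv'⟩⟩, he, hne⟩ := hni
    have he' : (g : G) • v = (h : G) • v' := congrArg Subtype.val he
    obtain ⟨hv1, hv2⟩ := Ob_sub hx'y hw hwy hv
    -- `r = h⁻¹ g`
    have hr1 : h⁻¹ * g ≠ 1 := by
      intro h1
      have h2 : g = h := (inv_mul_eq_one.1 h1).symm
      subst h2
      have h3 : v = v' := smul_left_cancel _ he'
      subst h3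
      exact hne rfl
    have hr2 : ((h⁻¹ * g : R) : G) • v = v' := by
      change ((h : G)⁻¹ * (g : G)) • v = v'
      rw [mul_smul, he', inv_smul_smul]
    have hr3 := pres_of_star F hS hA hx'y hv1 hv2 (hR (h⁻¹ * g : R).2) (by rw [hr2, Ob_eq hv]; exact hv')
    obtain ⟨k, hk⟩ := (IsPGroup.iff_orderOf.1 hR2) (h⁻¹ * g)
    have hk0 : k ≠ 0 := by
      rintro rfl
      rw [pow_zero, orderOf_eq_one_iff] at hk
      exact hr1 hk
    obtain ⟨j, rfl⟩ : ∃ j, k = j + 1 := ⟨k - 1, by omega⟩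
    refine ⟨((h⁻¹ * g : R) : G) ^ 2 ^ j, pow_mem (h⁻¹ * g : R).2 _, ?_, ?_, ?_⟩
    · rw [← pow_mul, ← pow_succ, ← hk]
      have := pow_orderOf_eq_one (h⁻¹ * g : R)
      exact congrArg Subtype.val this
    · intro h1
      have h2 : (h⁻¹ * g : R) ^ 2 ^ j = 1 := Subtype.ext h1
      have h3 := orderOf_dvd_of_pow_eq_one h2
      rw [hk] at h3
      have h4 := (Nat.pow_dvd_pow_iff_le_right (by norm_num : 1 < 2)).1 h3
      omega
    · refine three_fixed F hA hp2 hx'y hs' (pow_mem (hR (h⁻¹ * g : R).2) _) ?_ (hr3.pow hx'y _)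
      rw [← pow_mul, ← pow_succ, ← hk]
      have := pow_orderOf_eq_one (h⁻¹ * g : R)
      exact congrArg Subtype.val this
  choose! f hfR hf2 hf1 hf3 using key
  have hinj : Function.Injective (fun i : {x' : V // P.adj y x'} => (⟨f i.1, hfR i.1 i.2⟩ : R)) := by
    rintro ⟨x₁, h₁⟩ ⟨x₂, h₂⟩ he
    have he' : f x₁ = f x₂ := congrArg Subtype.val he
    apply Subtype.ext
    by_contra hne
    have h3 := quad hn h₁ h₂ hne (hR (hfR x₁ h₁)) (hf2 x₁ h₁) hodd (by rw [htp x₁ h₁]; exact hlt) (hf3 x₁ h₁)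
      (by rw [he']; exact hf3 x₂ h₂)
    obtain ⟨k, hk⟩ := hA.pgroup h₁ ⟨f x₁, hR (hfR x₁ h₁), h3⟩
    have h4 : f x₁ ^ p ^ k = 1 := congrArg Subtype.val hk
    have h5 : orderOf (f x₁) = 2 := orderOf_eq_prime (hf2 x₁ h₁) (hf1 x₁ h₁)
    have h6 := orderOf_dvd_of_pow_eq_one h4
    rw [h5] at h6
    exact hp2 ((Nat.prime_dvd_prime_iff_eq Nat.prime_two hA.prime).1 (Nat.prime_two.dvd_of_dvd_pow h6)).symm
  have h1 := Nat.card_le_card_of_injective _ hinj
  rw [P.card_nb, hc] at h1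
  omega

end Cfsg.Agent.H303.E1
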