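import Cfsg.Agent.H384.TwoTransRed
import Cfsg.Agent.S0813
import Cfsg.Agent.S0814
import Cfsg.Agent.S0815
import Cfsg.Agent.S0243
import Cfsg.Agent.ClassicalGeometry.PSL2Basic

/-!
# S3414, E1: the socle of a 2-transitive group of degree `p ^ 3 + 1` or `50` has few outer automorphisms
-/

set_option autoImplicit false

namespace Cfsg.Agent.H303.E1

open Cfsg.Agent.H384.TwoTrans Matrix

universe u

theorem card_pgl {F : Type} [Field F] [Fintype F] {n : ℕ} (hn : 2 ≤ n) : Nat.card (ProjGenLinGroup (Fin n) F) =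
    Nat.gcd n (Fintype.card F - 1) * Nat.card (ProjectiveSpecialLinearGroup (Fin n) F) := by
  have h := S0243.result (F := F) rfl n hn
  have hq : 2 ≤ Fintype.card F := Fintype.one_lt_card
  have : Nonempty (Fin n) := ⟨⟨0, by omega⟩⟩
  have h1 := ClassicalGeometry.PSL2Basic.card_PGL_mul (Fin n) F
  rw [Matrix.card_GL_field, ← h] at h1
  refine Nat.eq_of_mul_eq_mul_right (show 0 < Fintype.card F - 1 by omega) (h1.trans ?_)
  ring

theorem card_aut_psl_two {F : Type} [Field F] [Fintype F] {p f : ℕ} (hp : p.Prime) (hf : 1 ≤ f) (hF : Fintype.card F = p ^ f)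
    (h4 : 4 ≤ Fintype.card F) : Nat.card (MulAut (ProjectiveSpecialLinearGroup (Fin 2) F)) =
    (f * Nat.gcd 2 (Fintype.card F - 1)) * Nat.card (ProjectiveSpecialLinearGroup (Fin 2) F) := by
  have := Fact.mk hp
  have h := S0813.result (F := F) p f hf hF 2 le_rfl (fun _ => by rw [← hF]; exact h4)
  rw [if_pos rfl, one_mul, card_pgl le_rfl] at h
  rw [h, mul_assoc]

theorem card_mulAut_congr {T T' : Type*} [Group T] [Group T'] (e : T ≃* T') : Nat.card (MulAut T) = Nat.card (MulAut T') :=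
  Nat.card_congr (MulAut.congr e).toEquiv

/-- the bound for the outer automorphisms -/
def OutB (T : Type u) [Group T] (n k : ℕ) : Prop :=
  2 * Nat.card T = n.factorial ∨ ∃ c, Nat.card (MulAut T) ∣ c * Nat.card T ∧ ¬ 2 ^ k ∣ c

theorem psl_big {p j t q d : ℕ} (hp : p.Prime) (hq : 2 ≤ q) (hd : 3 ≤ d) (ht : t = p ^ j) (h : (t + 1) * (q - 1) = q ^ d - 1) :
    False := by
  obtain ⟨a, rfl⟩ : ∃ a, q = a + 1 := ⟨q - 1, by omega⟩
  obtain ⟨e, rfl⟩ : ∃ e, d = e + 1 := ⟨d - 1, by omega⟩
  rw [Nat.add_sub_cancel] at h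
  have h1 : 1 ≤ (a + 1) ^ e := Nat.one_le_pow _ _ (by omega)
  have h2 : t * a + (a + 1) = (a + 1) * (a + 1) ^ e := by
    have h3 : (a + 1) ^ (e + 1) = (a + 1) * (a + 1) ^ e := pow_succ' _ _
    have h4 : 1 ≤ (a + 1) ^ (e + 1) := Nat.one_le_pow _ _ (by omega)
    rw [← h3]
    have : (t + 1) * a = t * a + a := by ring
    omega
  have h3 : (a + 1) ∣ t * a := (Nat.dvd_add_left (dvd_refl (a + 1))).1 (by rw [h2]; exact Dvd.intro _ rfl)
  have hcop : Nat.Coprime (a + 1) a := by simp
  have h4 : (a + 1) ∣ t := hcop.dvd_of_dvd_mul_right h3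
  obtain ⟨m, hm⟩ := h4
  have h5 : m * a + 1 = (a + 1) ^ e := by
    rw [hm] at h2
    have h6 : (a + 1) * (m * a + 1) = (a + 1) * (a + 1) ^ e := by rw [← h2]; ring
    exact Nat.eq_of_mul_eq_mul_left (by omega) h6
  have h6 : m ∣ p ^ j := by rw [← ht, hm]; exact Dvd.intro_left _ rfl
  have h7 : (a + 1) ∣ p ^ j := by rw [← ht, hm]; exact Dvd.intro _ rfl
  obtain ⟨i, -, hi⟩ := (Nat.dvd_prime_pow hp).1 h6
  obtain ⟨l, -, hl⟩ := (Nat.dvd_prime_pow hp).1 h7
  rcases i with _ | i
  · rw [pow_zero] at hi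
    subst hi
    rw [one_mul] at h5
    have h8 : (a + 1) ^ 1 = (a + 1) ^ e := by rw [pow_one]; exact h5
    have h9 := Nat.pow_right_injective hq h8
    omega
  · have hpm : p ∣ m := by rw [hi]; exact dvd_pow_self p (by omega)
    have hpa : p ∣ a + 1 := by
      rw [hl]
      refine dvd_pow_self p ?_
      rintro rfl
      rw [pow_zero] at hl
      omega
    have h8 : p ∣ (a + 1) ^ e := hpa.trans (dvd_pow_self _ (by omega))
    rw [← h5] at h8
    have h9 := (Nat.dvd_add_right (hpm.mul_right a)).1 h8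
    exact hp.one_lt.ne' (Nat.dvd_one.1 h9)

theorem outB {T : Type u} [Group T] {t p k n : ℕ} (hp : p.Prime) (h3 : 3 ≤ p) (hk : p + 1 = 2 ^ k)
    (ht : t = p ^ 3 ∨ (p = 7 ∧ t = p ^ 2)) (hn : n = t + 1) (hK : Known2 T n) : OutB T n k := by
  have hfac := Fact.mk hp
  have hk2 : 2 ≤ k := by
    by_contra hcon
    have : 2 ^ k ≤ 2 ^ 1 := Nat.pow_le_pow_right (by norm_num) (by omega)
    omega
  have h4k : 4 ∣ 2 ^ k := by
    obtain ⟨i, rfl⟩ := Nat.exists_eq_add_of_le' hk2
    exact Dvd.intro_left (2 ^ i) (by ring)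
  have hn4 : ∀ c, ¬ 4 ∣ c → ¬ 2 ^ k ∣ c := fun c hc h => hc (h4k.trans h)
  have h27 : 27 ≤ t := by
    rcases ht with rfl | ⟨rfl, rfl⟩
    · exact Nat.pow_le_pow_left h3 3
    · norm_num
  have htj : ∃ j, 1 ≤ j ∧ t = p ^ j := by
    rcases ht with h | ⟨-, h⟩
    · exact ⟨3, by norm_num, h⟩
    · exact ⟨2, by norm_num, h⟩
  have hodd : ¬ 2 ∣ t := by
    obtain ⟨j, -, rfl⟩ := htj
    intro h
    have h1 := Nat.prime_two.dvd_of_dvd_pow h
    have h2 := (Nat.prime_dvd_prime_iff_eq Nat.prime_two hp).1 h1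
    omega
  cases hK with
  | alt n h5 e =>
    obtain ⟨e⟩ := e
    left
    have : Nontrivial (Fin n) := Fin.nontrivial_iff_two_le.2 (by omega)
    rw [Nat.card_congr e.toEquiv]
    rw [two_mul_nat_card_alternatingGroup, Nat.card_perm, Nat.card_fin]
  | psl F d n hd hd2 e hn' =>
    obtain ⟨e⟩ := e
    right
    have hq : 2 ≤ Fintype.card F := Fintype.one_lt_card
    rcases Nat.lt_or_ge 2 d with h | h
    · obtain ⟨j, -, hj⟩ := htj
      exact (psl_big hp hq h hj (by rw [← hn]; exact hn')).elim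
    · obtain rfl : d = 2 := by omega
      have h4 := hd2 rfl
      have hqt : Fintype.card F = t := by
        have h5 : Fintype.card F ^ 2 - 1 = (Fintype.card F + 1) * (Fintype.card F - 1) := by
          have := Nat.sq_sub_sq (Fintype.card F) 1
          rwa [one_pow] at this
        rw [h5, hn] at hn'
        have := Nat.eq_of_mul_eq_mul_right (show 0 < Fintype.card F - 1 by omega) hn'
        omega
      rcases ht with ht | ⟨h7, ht⟩
      · have h6 := card_aut_psl_two hp (by norm_num) (hqt.trans ht) h4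
        refine ⟨3 * Nat.gcd 2 (Fintype.card F - 1), ?_, ?_⟩
        · rw [card_mulAut_congr e, h6, Nat.card_congr e.toEquiv]
        · apply hn4
          have h8 : Nat.gcd 2 (Fintype.card F - 1) ∣ 2 := Nat.gcd_dvd_left _ _
          have h9 := (Nat.dvd_prime Nat.prime_two).1 h8
          rcases h9 with h9 | h9 <;> rw [h9] <;> norm_num
      · have h6 := card_aut_psl_two hp (by norm_num) (hqt.trans ht) h4
        refine ⟨2 * Nat.gcd 2 (Fintype.card F - 1), ?_, ?_⟩
        · rw [card_mulAut_congr e, h6, Nat.card_congr e.toEquiv]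
        · rw [← hk, h7]
          have h8 : Nat.gcd 2 (Fintype.card F - 1) ∣ 2 := Nat.gcd_dvd_left _ _
          have h9 := (Nat.dvd_prime Nat.prime_two).1 h8
          rcases h9 with h9 | h9 <;> rw [h9] <;> norm_num
  | sp F m n hF hm e hn' =>
    obtain ⟨e⟩ := e
    right
    refine ⟨1, ?_, hn4 1 (by norm_num)⟩
    have : Fact (Nat.Prime 2) := ⟨Nat.prime_two⟩
    have h := S0814.result (F := F) 2 1 le_rfl (by rw [hF, pow_one]) m (by omega) (by omega)
    rw [if_neg (by omega), one_mul, mul_one] at h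
    rw [card_mulAut_congr e, h, Nat.card_congr e.toEquiv]
    norm_num
  | psu F q n hq hF e hn' =>
    obtain ⟨e⟩ := e
    right
    have hqt : q ^ 3 = t := by omega
    rcases ht with ht | ⟨h7, ht⟩
    · have hqp : q = p := Nat.pow_left_injective (by norm_num : (3 : ℕ) ≠ 0) (hqt.trans ht)
      subst hqp
      have h := S0815.result (F := F) q 1 le_rfl (q := q) (pow_one q).symm hF 3 le_rfl (by omega)
      refine ⟨Nat.gcd 3 (q + 1) * (2 * 1), ?_, ?_⟩
      · rw [card_mulAut_congr e, h, Nat.card_congr e.toEquiv]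
      · have h6 : Nat.gcd 3 (q + 1) = 1 := by
          rw [hk]
          exact Nat.Coprime.pow_right k (by norm_num)
        rw [h6]
        exact hn4 _ (by norm_num)
    · exfalso
      subst h7
      rw [ht] at hqt
      have : q ≤ 3 := by
        by_contra hcon
        have h6 : 4 ^ 3 ≤ q ^ 3 := Nat.pow_le_pow_left (by omega) 3
        norm_num at h6 hqt
        omega
      have h8 : q = 3 := by omega
      subst h8
      norm_num at hqt
  | sz F m n hm hF e hn' =>
    exfalso
    apply hodd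
    have : t = Fintype.card F ^ 2 := by omega
    rw [this, hF]
    exact (dvd_pow_self 2 (by omega)).trans (dvd_pow_self _ (by norm_num))
  | ree K m n hm hK e hn' =>
    exfalso
    have h6 : t = Fintype.card K ^ 3 := by omega
    rcases ht with ht | ⟨h7, ht⟩
    · have h7 : p = Fintype.card K := Nat.pow_left_injective (by norm_num : (3 : ℕ) ≠ 0) (ht.symm.trans h6)
      rw [hK] at h7
      rw [h7] at hp
      exact Nat.Prime.not_prime_pow (by omega : 2 ≤ 2 * m + 1) hp
    · subst h7
      have h8 : 3 ∣ t := by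
        rw [h6, hK]
        exact (dvd_pow_self 3 (by omega)).trans (dvd_pow_self _ (by norm_num))
      rw [ht] at h8
      revert h8
      norm_num
  | psl2_8 F hF e =>
    obtain ⟨e⟩ := e
    right
    have h6 := card_aut_psl_two (F := F) Nat.prime_two (f := 3) (by norm_num) (by rw [hF]; norm_num) (by rw [hF]; norm_num)
    refine ⟨3, ?_, hn4 3 (by norm_num)⟩
    rw [card_mulAut_congr e, h6, Nat.card_congr e.toEquiv, hF]
    norm_num
  | psl2_9 F hF e => exfalso; omega
  | psl2_11 F hF e => exfalso; omega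
  | psl4_2 F hF e => exfalso; omega
  | a7 e => exfalso; omega
  | m11 h' => exfalso; omega
  | m11' h' => exfalso; omega
  | m12 h' => exfalso; omega
  | m22 h' => exfalso; omega
  | m23 h' => exfalso; omega
  | m24 h' => exfalso; omega
  | hs h' =>
    exfalso
    rcases ht with ht | ⟨h7, ht⟩
    · have : p ≤ 5 := by
        by_contra hcon
        have h6 : 6 ^ 3 ≤ p ^ 3 := Nat.pow_le_pow_left (by omega) 3
        omega
      interval_cases p <;> omega
    · subst h7; omega
  | co3 h' =>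
    exfalso
    rcases ht with ht | ⟨h7, ht⟩
    · have : p ≤ 6 := by
        by_contra hcon
        have h6 : 7 ^ 3 ≤ p ^ 3 := Nat.pow_le_pow_left (by omega) 3
        omega
      interval_cases p <;> omega
    · subst h7; omega

end Cfsg.Agent.H303.E1
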