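import Cfsg.Agent.H640.Tits.Geo

/-!
# S3414, E1: fixed points of an involution of `K y` in a generalized quadrangle

If `n = 4`, `t` is odd, `s < 2 t` and the involution `z` of `K y` fixes at least three neighbours of two neighbours `x`, `x₂` of `y`,
then `z` fixes all neighbours of `x`.
-/

set_option autoImplicit false

namespace Cfsg.Agent.H303.E1

open Cfsg.Agent.H873.Tits Cfsg.Agent.H640.Tits

universe u v

variable {G : Type u} [Group G] {V : Type v} [MulAction G V] {P : Pol G V}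

theorem opp4 (hn : P.n = 4) {a b c d e : V} (h1 : P.adj a b) (h2 : P.adj b c) (h3 : P.adj c d) (h4 : P.adj d e)
    (hca : c ≠ a) (hdb : d ≠ b) (hec : e ≠ c) : P.Opp a e :=
  ⟨q4 a b c d e, by rw [hn]; exact pfour h1 h2 h3 h4 hca hdb hec, rfl, by rw [hn]; rfl⟩

theorem uniq2 (hn : P.n = 4) {a b c b' : V} (h1 : P.adj a b) (h2 : P.adj b c) (h1' : P.adj a b') (h2' : P.adj b' c)
    (hca : c ≠ a) : b = b' :=
  (P.path_unique (ptwo h1 h2 hca) (ptwo h1' h2' hca) rfl rfl (by omega)).2 1 (by omega)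

theorem uniq3 (hn : P.n = 4) {a b c d b' c' : V} (h1 : P.adj a b) (h2 : P.adj b c) (h3 : P.adj c d) (hca : c ≠ a)
    (hdb : d ≠ b) (h1' : P.adj a b') (h2' : P.adj b' c') (h3' : P.adj c' d) (hca' : c' ≠ a) (hdb' : d ≠ b') :
    b = b' ∧ c = c' := by
  have h := (P.path_unique (pthree h1 h2 h3 hca hdb) (pthree h1' h2' h3' hca' hdb') rfl rfl (by omega)).2
  exact ⟨h 1 (by omega), h 2 (by omega)⟩

theorem no24 (hn : P.n = 4) {a b e b' c d : V} (h1 : P.adj a b) (h2 : P.adj b e) (hea : e ≠ a) (h1' : P.adj a b')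
    (h2' : P.adj b' c) (h3' : P.adj c d) (h4' : P.adj d e) (hca : c ≠ a) (hdb : d ≠ b') (hec : e ≠ c) : False := by
  have h := (P.path_unique (ptwo h1 h2 hea) (pfour h1' h2' h3' h4' hca hdb hec) rfl rfl (by omega)).1
  omega

theorem proj4 (hn : P.n = 4) {v v' a : V} (ho : P.Opp v v') (ha : P.adj v a) :
    ∃ b c : V, P.adj a b ∧ P.adj b c ∧ P.adj c v' ∧ b ≠ v ∧ c ≠ a ∧ v' ≠ b := by
  obtain ⟨p, hp, h0, h1, h4⟩ := proj_path P ho ha
  rw [hn] at hp h4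
  refine ⟨p 2, p 3, ?_, hp.1 2 (by omega), ?_, ?_, ?_, ?_⟩
  · rw [← h1]; exact hp.1 1 (by omega)
  · rw [← h4]; exact hp.1 3 (by omega)
  · rw [← h0]; exact hp.2 0 (by omega)
  · rw [← h1]; exact hp.2 1 (by omega)
  · rw [← h4]; exact hp.2 2 (by omega)

/-- fixed path of length three -/
theorem fix3 (hn : P.n = 4) {a b c d : V} (h1 : P.adj a b) (h2 : P.adj b c) (h3 : P.adj c d) (hca : c ≠ a)
    (hdb : d ≠ b) {z : G} (ha : z • a = a) (hd : z • d = d) : z • b = b ∧ z • c = c := by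
  have h := fix_path P (pthree h1 h2 h3 hca hdb) (by omega) (g := z) ha hd
  exact ⟨h 1 (by omega), h 2 (by omega)⟩

theorem fix2 (hn : P.n = 4) {a b c : V} (h1 : P.adj a b) (h2 : P.adj b c) (hca : c ≠ a) {z : G} (ha : z • a = a)
    (hc : z • c = c) : z • b = b :=
  fix_path P (ptwo h1 h2 hca) (by omega) (g := z) ha hc 1 (by omega)

/-- the fixed neighbours -/
def Fx (P : Pol G V) (z : G) (a : V) : Set V := {b | P.adj a b ∧ z • b = b}

theorem transfer [Finite V] (hn : P.n = 4) {a a' : V} (ho : P.Opp a a') {z : G} (hz' : z • a' = a') :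
    (Fx P z a).ncard ≤ (Fx P z a').ncard := by
  have key : ∀ b ∈ Fx P z a, ∃ b' ∈ Fx P z a', ∃ c, P.adj b c ∧ P.adj c b' ∧ c ≠ a ∧ b' ≠ b ∧ a' ≠ c := by
    rintro b ⟨hab, hb⟩
    obtain ⟨c, b', h1, h2, h3, h4, h5, h6⟩ := proj4 hn ho hab
    exact ⟨b', ⟨P.symm h3, (fix3 hn h1 h2 h3 h5 h6 hb hz').2⟩, c, h1, h2, h4, h5, h6⟩
  choose! f hf c hc1 hc2 hc3 hc4 hc5 using key
  refine Set.ncard_le_ncard_of_injOn f hf ?_ (Set.toFinite _)
  intro b hb b₁ hb₁ he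
  have h := uniq3 hn (P.symm (hc2 b hb)) (P.symm (hc1 b hb)) (P.symm hb.1) (hc4 b hb).symm (hc3 b hb).symm
    (a := f b) (d := a) (b' := c b₁) (c' := b₁) (by rw [he]; exact P.symm (hc2 b₁ hb₁)) (P.symm (hc1 b₁ hb₁)) (P.symm hb₁.1)
    (by rw [he]; exact (hc4 b₁ hb₁).symm) (hc3 b₁ hb₁).symm
  exact h.2

theorem card_sub {v a : V} [Finite V] (ha : P.adj v a) : Nat.card {w : V // P.adj v w ∧ w ≠ a} = P.q (P.tp v) := by
  have h1 := P.card_nb v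
  have h2 : Nat.card {w : V // P.adj v w} = ({w | P.adj v w} : Set V).ncard := Nat.card_coe_set_eq _
  have h3 : Nat.card {w : V // P.adj v w ∧ w ≠ a} = ({w | P.adj v w ∧ w ≠ a} : Set V).ncard := Nat.card_coe_set_eq _
  have h4 : ({w | P.adj v w ∧ w ≠ a} : Set V) = {w | P.adj v w} \ {a} := by
    ext w; simp [Set.mem_sdiff]
  have h5 := Set.ncard_sdiff_singleton_add_one (s := {w | P.adj v w}) ha (Set.toFinite _)
  rw [h3, h4]
  omega

/-- an involution fixing a neighbour of a vertex of even valency fixes another one -/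
theorem other_fixed [Finite V] {w x : V} (hwx : P.adj w x) {z : G} (hz : z ^ 2 = 1) (hw : z • w = w) (hx : z • x = x)
    (hodd : Odd (P.q (P.tp w))) : ∃ x', P.adj w x' ∧ x' ≠ x ∧ z • x' = x' := by
  classical
  have := Fintype.ofFinite {b : V // P.adj w b}
  let σ : Equiv.Perm {b : V // P.adj w b} := P.toPerm w ⟨z, hw⟩
  have hσ : σ ^ 2 ^ 1 = 1 := by
    rw [pow_one]
    change P.toPerm w ⟨z, hw⟩ ^ 2 = 1
    rw [← map_pow]
    have : (⟨z, hw⟩ : P.S w) ^ 2 = 1 := Subtype.ext hz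
    rw [this, map_one]
  have : Fact (Nat.Prime 2) := ⟨Nat.prime_two⟩
  by_contra hcon
  push Not at hcon
  have h1 := Equiv.Perm.card_compl_support_modEq hσ
  have h2 : Fintype.card {b : V // P.adj w b} = P.q (P.tp w) + 1 := by
    rw [← Nat.card_eq_fintype_card]; exact P.card_nb w
  have h3 : (Equiv.Perm.support σ)ᶜ.card = 1 := by
    rw [Finset.card_eq_one]
    refine ⟨⟨x, hwx⟩, ?_⟩
    ext ⟨b, hb⟩
    rw [Finset.mem_compl, Equiv.Perm.notMem_support, Finset.mem_singleton]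
    constructor
    · intro h
      apply Subtype.ext
      by_contra hbx
      exact hcon b hb hbx (congrArg Subtype.val h)
    · intro h
      rw [h]
      exact Subtype.ext hx
  rw [h2, h3] at h1
  obtain ⟨m, hm⟩ := hodd
  have := h1
  unfold Nat.ModEq at this
  omega

/-- **the main lemma** -/
theorem quad [Finite V] (hn : P.n = 4) {y x x₂ : V} {z : G} (hyx : P.adj y x) (hyx₂ : P.adj y x₂) (hne : x ≠ x₂)
    (hz : z ∈ P.K y) (hz2 : z ^ 2 = 1) (hodd : Odd (P.q (P.tp y))) (hlt : P.q (P.tp x) < 2 * P.q (P.tp y))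
    (hx : 3 ≤ (Fx P z x).ncard) (hx₂ : 3 ≤ (Fx P z x₂).ncard) : z ∈ P.K x := by
  classical
  have zy : z • y = y := hz.1
  have znb : ∀ w, P.adj y w → z • w = w := hz.2
  have zx := znb x hyx
  -- a fixed neighbour `w ≠ y` of `x`
  have pick : ∀ {a : V} (b c : V), 3 ≤ (Fx P z a).ncard → ∃ w ∈ Fx P z a, w ≠ b ∧ w ≠ c := by
    intro a b c h
    have h1 : ¬ (Fx P z a ⊆ {b, c}) := by
      intro hs
      have h2 := Set.ncard_le_ncard hs (Set.toFinite _)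
      have h3 := Set.ncard_insert_le b {c}
      rw [Set.ncard_singleton] at h3
      omega
    obtain ⟨w, hw, hw'⟩ := Set.not_subset.1 h1
    simp only [Set.mem_insert_iff, Set.mem_singleton_iff, not_or] at hw'
    exact ⟨w, hw, hw'⟩
  obtain ⟨w, ⟨hxw, hw⟩, hwy, -⟩ := pick y y hx
  have htw : P.tp w = P.tp y := by rw [P.tp_adj hxw, P.tp_adj hyx, Bool.not_not]
  obtain ⟨x', hwx', hx'x, hx'⟩ := other_fixed (P.symm hxw) hz2 hw zx (by rw [htw]; exact hodd)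
  -- `x'` is opposite to every neighbour of `y` except `x`
  have hopp : ∀ x₀, P.adj y x₀ → x₀ ≠ x → P.Opp x' x₀ := fun x₀ h h' =>
    opp4 hn (P.symm hwx') (P.symm hxw) (P.symm hyx) h hx'x.symm hwy.symm h'
  have hfx' : 3 ≤ (Fx P z x').ncard := hx₂.trans (transfer hn (opp_symm P (hopp x₂ hyx₂ hne.symm)) hx')
  have hf0 : ∀ x₀, P.adj y x₀ → 3 ≤ (Fx P z x₀).ncard := by
    intro x₀ h
    by_cases hx0 : x₀ = x
    · rw [hx0]; exact hx
    · exact hfx'.trans (transfer hn (hopp x₀ h hx0) (znb x₀ h))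
  obtain ⟨y', ⟨hx'y', hy'⟩, hy'w, -⟩ := pick w w hfx'
  have hyy' : P.Opp y y' := opp4 hn hyx hxw hwx' hx'y' hwy hx'x hy'w
  have hzy' : z ∈ P.K y' := K_opp P hyy' ⟨hz, hy'⟩
  obtain ⟨w₂, ⟨hxw₂, hw₂⟩, hw₂y, hw₂w⟩ := pick y w hx
  have hzw₂ : z ∈ P.K w₂ := K_opp P (opp_symm P (opp4 hn (P.symm hxw₂) hxw hwx' hx'y' hw₂w.symm hx'x hy'w)) ⟨hzy', hw₂⟩
  have full : ∀ x₀ w₀, P.adj y x₀ → x₀ ≠ x → w₀ ∈ Fx P z x₀ → w₀ ≠ y → z ∈ P.K w₀ := by
    intro x₀ w₀ h h' h'' h'''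
    exact K_opp P (opp4 hn (P.symm hxw₂) (P.symm hyx) h h''.1 hw₂y.symm h' h''') ⟨hzw₂, h''.2⟩
  -- suppose that `v` is not fixed
  refine ⟨zx, ?_⟩
  by_contra hcon
  push Not at hcon
  obtain ⟨v, hxv, hv⟩ := hcon
  have hvy : v ≠ y := by rintro rfl; exact hv zy
  obtain ⟨a₁, hva₁, ha₁x, -⟩ := third P v x x
  have hoppv : ∀ x₀ w₀, P.adj y x₀ → x₀ ≠ x → w₀ ∈ Fx P z x₀ → w₀ ≠ y → P.Opp v w₀ := fun x₀ w₀ h h' h'' h''' =>
    opp4 hn (P.symm hxv) (P.symm hyx) h h''.1 hvy.symm h' h'''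
  have key : ∀ x₀ w₀, P.adj y x₀ ∧ x₀ ≠ x ∧ w₀ ∈ Fx P z x₀ ∧ w₀ ≠ y → ∃ u x₁, P.adj a₁ u ∧ u ≠ v ∧ P.adj u x₁ ∧ P.adj x₁ w₀ ∧
      x₁ ≠ a₁ ∧ w₀ ≠ u ∧ z • x₁ = x₁ ∧ x₁ ≠ x₀ := by
    rintro x₀ w₀ ⟨h, h', h'', h'''⟩
    obtain ⟨u, x₁, h1, h2, h3, h4, h5, h6⟩ := proj4 hn (hoppv x₀ w₀ h h' h'' h''') hva₁
    refine ⟨u, x₁, h1, h4, h2, h3, h5, h6, (full x₀ w₀ h h' h'' h''').2 _ (P.symm h3), ?_⟩
    rintro rfl
    exact ha₁x (uniq3 hn hva₁ h1 h2 h4 h5 (P.symm hxv) (P.symm hyx) h hvy.symm h').1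
  choose! U X hU hUv hUX hXw hXa hwU hXf hXx using key
  -- injectivity
  have inj : ∀ x₀ w₀ x₀' w₀', (P.adj y x₀ ∧ x₀ ≠ x ∧ w₀ ∈ Fx P z x₀ ∧ w₀ ≠ y) →
      (P.adj y x₀' ∧ x₀' ≠ x ∧ w₀' ∈ Fx P z x₀' ∧ w₀' ≠ y) → U x₀ w₀ = U x₀' w₀' → x₀ = x₀' ∧ w₀ = w₀' := by
    intro x₀ w₀ x₀' w₀' h h' he
    have e1 : X x₀ w₀ = X x₀' w₀' := by
      by_contra hX
      -- `U` is fixed
      have h1 : z • U x₀ w₀ = U x₀ w₀ := fix2 hn (a := X x₀ w₀) (c := X x₀' w₀') (P.symm (hUX x₀ w₀ h))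
        (by rw [he]; exact hUX x₀' w₀' h') (Ne.symm hX) (hXf x₀ w₀ h) (hXf x₀' w₀' h')
      have h2 := fix3 hn (a := U x₀ w₀) (b := a₁) (c := v) (d := x) (P.symm (hU x₀ w₀ h)) (P.symm hva₁) (P.symm hxv)
        (hUv x₀ w₀ h).symm ha₁x.symm h1 zx
      exact hv h2.2
    have e2 : w₀ = w₀' := by
      by_contra hw0
      have h1 := P.symm (hXw x₀ w₀ h)
      have h2 : P.adj (X x₀ w₀) w₀' := by rw [e1]; exact hXw x₀' w₀' h'
      by_cases hx0 : x₀ = x₀'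
      · subst hx0
        have h3 := uniq2 hn h1 h2 (P.symm h.2.2.1.1) h'.2.2.1.1 (Ne.symm hw0)
        exact hXx x₀ w₀ h h3
      · exact no24 hn h1 h2 (Ne.symm hw0) (P.symm h.2.2.1.1) (P.symm h.1) h'.1 h'.2.2.1.1 h.2.2.2.symm
          (Ne.symm hx0) h'.2.2.2
    refine ⟨?_, e2⟩
    subst e2
    exact uniq2 hn h.1 h.2.2.1.1 h'.1 h'.2.2.1.1 h.2.2.2
  -- two fixed neighbours of `x₀`
  have two : ∀ x₀, P.adj y x₀ → ∃ f : Bool → V, Function.Injective f ∧ ∀ b, f b ∈ Fx P z x₀ ∧ f b ≠ y := by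
    intro x₀ h
    obtain ⟨b, hb, hby, -⟩ := pick y y (hf0 x₀ h)
    obtain ⟨c, hc, hcy, hcb⟩ := pick y b (hf0 x₀ h)
    refine ⟨fun i => if i then b else c, ?_, ?_⟩
    · intro i j hij
      cases i <;> cases j
      · rfl
      · exact (hcb (by simpa using hij)).elim
      · exact (hcb (by simpa using hij.symm)).elim
      · rfl
    · intro i
      cases i
      · exact ⟨hc, hcy⟩
      · exact ⟨hb, hby⟩
  choose! f hfi hf using two
  have hcard := Nat.card_le_card_of_injective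
    (fun i : {x₀ : V // P.adj y x₀ ∧ x₀ ≠ x} × Bool => (⟨U i.1.1 (f i.1.1 i.2), by
      have h := hf i.1.1 i.1.2.1 i.2
      exact ⟨hU _ _ ⟨i.1.2.1, i.1.2.2, h.1, h.2⟩, hUv _ _ ⟨i.1.2.1, i.1.2.2, h.1, h.2⟩⟩⟩ : {u : V // P.adj a₁ u ∧ u ≠ v}))
    (by
      rintro ⟨⟨x₀, h0⟩, i⟩ ⟨⟨x₀', h0'⟩, i'⟩ he
      have he' := congrArg Subtype.val he
      have h := hf x₀ h0.1 i
      have h' := hf x₀' h0'.1 i'
      obtain ⟨e1, e2⟩ := inj _ _ _ _ ⟨h0.1, h0.2, h.1, h.2⟩ ⟨h0'.1, h0'.2, h'.1, h'.2⟩ he'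
      subst e1
      have := hfi x₀ h0.1 e2
      subst this
      rfl)
  rw [Nat.card_prod, Nat.card_eq_fintype_card (α := Bool), Fintype.card_bool, card_sub hyx, card_sub (P.symm hva₁)] at hcard
  have hta : P.tp a₁ = P.tp x := by rw [P.tp_adj hva₁, P.tp_adj hxv, Bool.not_not]
  rw [hta] at hcard
  omega

end Cfsg.Agent.H303.E1
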